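import Cfsg.Agent.Lib.CosetEnum.MclStemC.Data

/-! Generated certificate. -/

set_option autoImplicit false
set_option maxRecDepth 20000

namespace Cfsg.Lib.CosetEnum.MclStemC

open Stem

theorem stepsB_0 : vstepsOK certB 654 0 = true := by
  decide +kernel

end Cfsg.Lib.CosetEnum.MclStemC
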