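import Cfsg.Agent.Lib.CosetEnum.Defs

/-! Generated table data. -/

set_option autoImplicit false
set_option maxRecDepth 20000

namespace Cfsg.Lib.CosetEnum.MclStemC

/-- Table data. -/
def tabCA_0_0 : Tab :=
  (.node 2 (.node 1 (.leaf 0x40000000000000016) (.leaf 0x10000140000400000c000020000000000500000000000)) (.node 1 (.leaf 0x100001c0000600004400007000018000110000400000400000000001) (.node 1 (.leaf 0x4000070000180001100003c0000e0000340000c00002c0000a00002400008000004000000000400000b00000000002) (.leaf 0x100003c000130000480000f00004c0000200002000003))))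

/-- Table data. -/
def tabCA_0 : Tab :=
  tabCA_0_0

end Cfsg.Lib.CosetEnum.MclStemC
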