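import Cfsg.Agent.Lib.CosetEnum.Defs

/-! Generated table data. -/

set_option autoImplicit false
set_option maxRecDepth 20000

namespace Cfsg.Lib.CosetEnum.MclStemC

/-- Table data. -/
def tabFA_0_0 : Tab :=
  (.leaf 0x780001e10000000000800001010000000000400001000000000000300000020000000000000000000000000000780002000000000000700001e20000000000680001c00000000000600001a10000000000580001820000000000500001610000000000480001400000000000100001220000000000380001020000000000300000e00000000000280000c10000000000200000a2000000000018000081000000000008000062000000000008000040000000000000000021)

/-- Table data. -/
def tabFA_0 : Tab :=
  tabFA_0_0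

end Cfsg.Lib.CosetEnum.MclStemC
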