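import Cfsg.Agent.Lib.CosetEnum.Defs

/-! Generated table data. -/

set_option autoImplicit false
set_option maxRecDepth 20000

namespace Cfsg.Lib.CosetEnum.MclStemC

/-- Table data. -/
def tabVA_0_0 : Tab :=
  (.node 10 (.node 5 (.node 2 (.node 1 (.leaf 0x80808080808080808080) (.leaf 0x80808080808080808080)) (.node 1 (.leaf 0x80808080808080808080) (.node 1 (.leaf 0x80808080808080808080) (.leaf 0x80808080808080808080)))) (.node 2 (.node 1 (.leaf 0x80808080808080808080) (.leaf 0x80808080808080808080)) (.node 1 (.leaf 0x80808080808080808080) (.node 1 (.leaf 0x80808080808080808080) (.leaf 0x80808080808080808080))))) (.node 5 (.node 2 (.node 1 (.leaf 0x80808080808080808080) (.leaf 0x80808080808080808080)) (.node 1 (.leaf 0x80808080808080808080) (.node 1 (.leaf 0x80808080808080808080) (.leaf 0x80808080808080808080)))) (.node 3 (.node 1 (.leaf 0x80808080808080808080) (.node 1 (.leaf 0x80808080808080808080) (.leaf 0x80808080808081808080))) (.node 1 (.leaf 0x80808080808080808180) (.node 1 (.leaf 0x8080808180807f808080) (.leaf 0x80808080808080808181))))))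

/-- Table data. -/
def tabVA_0 : Tab :=
  tabVA_0_0

end Cfsg.Lib.CosetEnum.MclStemC
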