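import Cfsg.Agent.Lib.CosetEnum.Defs

/-! Generated table data. -/

set_option autoImplicit false
set_option maxRecDepth 20000

namespace Cfsg.Lib.CosetEnum.MclStemC

/-- Table data. -/
def tabVB_0_0 : Tab :=
  (.node 32 (.node 16 (.node 8 (.node 4 (.node 2 (.node 1 (.leaf 0x8888888888) (.leaf 0x8888888888)) (.node 1 (.leaf 0x8888888888) (.leaf 0x8888888888))) (.node 2 (.node 1 (.leaf 0x8888888888) (.leaf 0x8888888888)) (.node 1 (.leaf 0x8888888888) (.leaf 0x8888888888)))) (.node 4 (.node 2 (.node 1 (.leaf 0x8888888888) (.leaf 0x8888888888)) (.node 1 (.leaf 0x8888888888) (.leaf 0x8888888888))) (.node 2 (.node 1 (.leaf 0x8888888888) (.leaf 0x8888888888)) (.node 1 (.leaf 0x8888888888) (.leaf 0x8888888888))))) (.node 8 (.node 4 (.node 2 (.node 1 (.leaf 0x8888888888) (.leaf 0x8888888888)) (.node 1 (.leaf 0x8888888888) (.leaf 0x8888888888))) (.node 2 (.node 1 (.leaf 0x8888888888) (.leaf 0x8888888888)) (.node 1 (.leaf 0x8888888888) (.leaf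 0x8888888888)))) (.node 4 (.node 2 (.node 1 (.leaf 0x8888888888) (.leaf 0x8888888888)) (.node 1 (.leaf 0x8888888888) (.leaf 0x8888888888))) (.node 2 (.node 1 (.leaf 0x8888888888) (.leaf 0x8888888888)) (.node 1 (.leaf 0x8888888888) (.leaf 0x8888888888)))))) (.node 16 (.node 8 (.node 4 (.node 2 (.node 1 (.leaf 0x8888888888) (.leaf 0x8888888888)) (.node 1 (.leaf 0x8888888888) (.leaf 0x8888888888))) (.node 2 (.node 1 (.leaf 0x8888888888) (.leaf 0x8888888888)) (.node 1 (.leaf 0x8888888888) (.leaf 0x8888888888)))) (.node 4 (.node 2 (.node 1 (.leaf 0x8888888888) (.leaf 0x8888888888)) (.node 1 (.leaf 0x8888888888) (.leaf 0x8888888888))) (.node 2 (.node 1 (.leaf 0x8888888888) (.leaf 0x8888888888)) (.node 1 (.leaf 0x8888888888) (.leaf 0x8888888888))))) (.node 8 (.node 4 (.node 2 (.node 1 (.leaf 0x8888888888) (.leaf 0x8888888888)) (.node 1 (.leaf 0x8888888888) (.leaf 0x8888888888))) (.node 2 (.node 1 (.leaf 0x8888888888) (.leaf 0x8888888888))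 (.node 1 (.leaf 0x8888888888) (.leaf 0x8888888888)))) (.node 4 (.node 2 (.node 1 (.leaf 0x8888888888) (.leaf 0x8888888888)) (.node 1 (.leaf 0x8888888888) (.leaf 0x8888888888))) (.node 2 (.node 1 (.leaf 0x8888888888) (.leaf 0x8888888888)) (.node 1 (.leaf 0x8888888888) (.leaf 0x8888888888)))))))

/-- Table data. -/
def tabVB_0_1 : Tab :=
  (.node 32 (.node 16 (.node 8 (.node 4 (.node 2 (.node 1 (.leaf 0x8888888888) (.leaf 0x8888888888)) (.node 1 (.leaf 0x8888888888) (.leaf 0x8888888888))) (.node 2 (.node 1 (.leaf 0x8888888888) (.leaf 0x8888888888)) (.node 1 (.leaf 0x8888888888) (.leaf 0x8888888888)))) (.node 4 (.node 2 (.node 1 (.leaf 0x8888888888) (.leaf 0x8888888888)) (.node 1 (.leaf 0x8888888888) (.leaf 0x8888888888))) (.node 2 (.node 1 (.leaf 0x8888888888) (.leaf 0x8888888888)) (.node 1 (.leaf 0x8888888888) (.leaf 0x8888888888))))) (.node 8 (.node 4 (.node 2 (.node 1 (.leaf 0x8888888888) (.leaf 0x8888888888)) (.node 1 (.leaf 0x8888888888)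 (.leaf 0x8888888888))) (.node 2 (.node 1 (.leaf 0x8888888888) (.leaf 0x8888888888)) (.node 1 (.leaf 0x8888888888) (.leaf 0x8888888888)))) (.node 4 (.node 2 (.node 1 (.leaf 0x8888888888) (.leaf 0x8888888888)) (.node 1 (.leaf 0x8888888888) (.leaf 0x8888888888))) (.node 2 (.node 1 (.leaf 0x8888888888) (.leaf 0x8888888888)) (.node 1 (.leaf 0x8888888888) (.leaf 0x8888888888)))))) (.node 16 (.node 8 (.node 4 (.node 2 (.node 1 (.leaf 0x8888888888) (.leaf 0x8888888888)) (.node 1 (.leaf 0x8888888888) (.leaf 0x8888888888))) (.node 2 (.node 1 (.leaf 0x8888888888) (.leaf 0x8888888888)) (.node 1 (.leaf 0x8888888888) (.leaf 0x8888888888)))) (.node 4 (.node 2 (.node 1 (.leaf 0x8888888888) (.leaf 0x8888888888)) (.node 1 (.leaf 0x8888888888) (.leaf 0x8888888888))) (.node 2 (.node 1 (.leaf 0x8888888888) (.leaf 0x8888888888)) (.node 1 (.leaf 0x8888888888) (.leaf 0x8888888888))))) (.node 8 (.node 4 (.node 2 (.node 1 (.leaf 0x8888888888) (.leaf 0x8888888888))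 (.node 1 (.leaf 0x8888888888) (.leaf 0x8888888888))) (.node 2 (.node 1 (.leaf 0x8888888888) (.leaf 0x8888888888)) (.node 1 (.leaf 0x8888888888) (.leaf 0x8888888888)))) (.node 4 (.node 2 (.node 1 (.leaf 0x8888888888) (.leaf 0x8888888888)) (.node 1 (.leaf 0x8888888888) (.leaf 0x8888888888))) (.node 2 (.node 1 (.leaf 0x8888888888) (.leaf 0x8888888888)) (.node 1 (.leaf 0x8888888888) (.leaf 0x8888888888)))))))

/-- Table data. -/
def tabVB_0_2 : Tab :=
  (.node 32 (.node 16 (.node 8 (.node 4 (.node 2 (.node 1 (.leaf 0x8888888888) (.leaf 0x8888888888)) (.node 1 (.leaf 0x8888888888) (.leaf 0x8888888888))) (.node 2 (.node 1 (.leaf 0x8888888888) (.leaf 0x8888888888)) (.node 1 (.leaf 0x8888888888) (.leaf 0x8888888888)))) (.node 4 (.node 2 (.node 1 (.leaf 0x8888888888) (.leaf 0x8888888888)) (.node 1 (.leaf 0x8888888888) (.leaf 0x8888888888))) (.node 2 (.node 1 (.leaf 0x8888888888) (.leaf 0x8888888888)) (.node 1 (.leaf 0x8888888888) (.leaf 0x8888888888)))))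 (.node 8 (.node 4 (.node 2 (.node 1 (.leaf 0x8888888888) (.leaf 0x8888888888)) (.node 1 (.leaf 0x8888888888) (.leaf 0x8888888888))) (.node 2 (.node 1 (.leaf 0x8888888888) (.leaf 0x8888888888)) (.node 1 (.leaf 0x8888888888) (.leaf 0x8888888888)))) (.node 4 (.node 2 (.node 1 (.leaf 0x8888888888) (.leaf 0x8888888888)) (.node 1 (.leaf 0x8888888888) (.leaf 0x8888888888))) (.node 2 (.node 1 (.leaf 0x8888888888) (.leaf 0x8888888888)) (.node 1 (.leaf 0x8888888888) (.leaf 0x8888888888)))))) (.node 16 (.node 8 (.node 4 (.node 2 (.node 1 (.leaf 0x8888888888) (.leaf 0x8888888888)) (.node 1 (.leaf 0x8888888888) (.leaf 0x8888888888))) (.node 2 (.node 1 (.leaf 0x8888888888) (.leaf 0x8888888888)) (.node 1 (.leaf 0x8888888888) (.leaf 0x8888888888)))) (.node 4 (.node 2 (.node 1 (.leaf 0x8888888888) (.leaf 0x8888888888)) (.node 1 (.leaf 0x8888888888) (.leaf 0x8888888888))) (.node 2 (.node 1 (.leaf 0x8888888888) (.leaf 0x8888888888)) (.node 1 (.leaf 0x8888888888)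 (.leaf 0x8888888888))))) (.node 8 (.node 4 (.node 2 (.node 1 (.leaf 0x8888888888) (.leaf 0x8888888888)) (.node 1 (.leaf 0x8888888888) (.leaf 0x8888888888))) (.node 2 (.node 1 (.leaf 0x8888888888) (.leaf 0x8888888888)) (.node 1 (.leaf 0x8888888888) (.leaf 0x8888888888)))) (.node 4 (.node 2 (.node 1 (.leaf 0x8888888888) (.leaf 0x8888888888)) (.node 1 (.leaf 0x8888888888) (.leaf 0x8888888888))) (.node 2 (.node 1 (.leaf 0x8888888888) (.leaf 0x8888888888)) (.node 1 (.leaf 0x8888888888) (.leaf 0x8888888888)))))))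

/-- Table data. -/
def tabVB_0_3 : Tab :=
  (.node 32 (.node 16 (.node 8 (.node 4 (.node 2 (.node 1 (.leaf 0x8888888888) (.leaf 0x8888888888)) (.node 1 (.leaf 0x8888888888) (.leaf 0x8888888888))) (.node 2 (.node 1 (.leaf 0x8888888888) (.leaf 0x8888888888)) (.node 1 (.leaf 0x8888888888) (.leaf 0x8888888888)))) (.node 4 (.node 2 (.node 1 (.leaf 0x8888888888) (.leaf 0x8888888888)) (.node 1 (.leaf 0x8888888888) (.leaf 0x8888888888))) (.node 2 (.node 1 (.leaf 0x8888888888) (.leaf 0x8888888888)) (.node 1 (.leaf 0x8888888888) (.leaf 0x8888888888))))) (.node 8 (.node 4 (.node 2 (.node 1 (.leaf 0x8888888888) (.leaf 0x8888888888)) (.node 1 (.leaf 0x8888888888) (.leaf 0x8888888888))) (.node 2 (.node 1 (.leaf 0x8888888888) (.leaf 0x8888888888)) (.node 1 (.leaf 0x8888888888) (.leaf 0x8888888888)))) (.node 4 (.node 2 (.node 1 (.leaf 0x8888888888) (.leaf 0x8888888888)) (.node 1 (.leaf 0x8888888888) (.leaf 0x8888888888))) (.node 2 (.node 1 (.leaf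 0x8888888888) (.leaf 0x8888888888)) (.node 1 (.leaf 0x8888888888) (.leaf 0x8888888888)))))) (.node 16 (.node 8 (.node 4 (.node 2 (.node 1 (.leaf 0x8888888888) (.leaf 0x8888888888)) (.node 1 (.leaf 0x8888888888) (.leaf 0x8888888888))) (.node 2 (.node 1 (.leaf 0x8888888888) (.leaf 0x8888888888)) (.node 1 (.leaf 0x8888888888) (.leaf 0x8888888888)))) (.node 4 (.node 2 (.node 1 (.leaf 0x8888888888) (.leaf 0x8888888888)) (.node 1 (.leaf 0x8888888888) (.leaf 0x8888888888))) (.node 2 (.node 1 (.leaf 0x8888888888) (.leaf 0x8888888888)) (.node 1 (.leaf 0x8888888888) (.leaf 0x8888888888))))) (.node 8 (.node 4 (.node 2 (.node 1 (.leaf 0x8888888888) (.leaf 0x8888888888)) (.node 1 (.leaf 0x8888888888) (.leaf 0x8888888888))) (.node 2 (.node 1 (.leaf 0x8888888888) (.leaf 0x8888888888)) (.node 1 (.leaf 0x8888888888) (.leaf 0x8888888888)))) (.node 4 (.node 2 (.node 1 (.leaf 0x8888888888) (.leaf 0x8888888888)) (.node 1 (.leaf 0x8888888888) (.leaf 0x8888888888)))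 (.node 2 (.node 1 (.leaf 0x8888888888) (.leaf 0x8888888888)) (.node 1 (.leaf 0x8888888888) (.leaf 0x8888888888)))))))

/-- Table data. -/
def tabVB_0_4 : Tab :=
  (.node 32 (.node 16 (.node 8 (.node 4 (.node 2 (.node 1 (.leaf 0x8888888888) (.leaf 0x8888888888)) (.node 1 (.leaf 0x8888888888) (.leaf 0x8888888888))) (.node 2 (.node 1 (.leaf 0x8888888888) (.leaf 0x8888888888)) (.node 1 (.leaf 0x8888888888) (.leaf 0x8888888888)))) (.node 4 (.node 2 (.node 1 (.leaf 0x8888888888) (.leaf 0x8888888888)) (.node 1 (.leaf 0x8888888888) (.leaf 0x8888888888))) (.node 2 (.node 1 (.leaf 0x8888888888) (.leaf 0x8888888888)) (.node 1 (.leaf 0x8888888888) (.leaf 0x8888888888))))) (.node 8 (.node 4 (.node 2 (.node 1 (.leaf 0x8888888888) (.leaf 0x8888888888)) (.node 1 (.leaf 0x8888888888) (.leaf 0x8888888888))) (.node 2 (.node 1 (.leaf 0x8888888888) (.leaf 0x8888888888)) (.node 1 (.leaf 0x8888888888) (.leaf 0x8888888888)))) (.node 4 (.node 2 (.node 1 (.leaf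 0x8888888888) (.leaf 0x8888888888)) (.node 1 (.leaf 0x8888888888) (.leaf 0x8888888888))) (.node 2 (.node 1 (.leaf 0x8888888888) (.leaf 0x8888888888)) (.node 1 (.leaf 0x8888888888) (.leaf 0x8888888888)))))) (.node 16 (.node 8 (.node 4 (.node 2 (.node 1 (.leaf 0x8888888888) (.leaf 0x8888888888)) (.node 1 (.leaf 0x8888888888) (.leaf 0x8888888888))) (.node 2 (.node 1 (.leaf 0x8888888888) (.leaf 0x8888888888)) (.node 1 (.leaf 0x8888888888) (.leaf 0x8888888888)))) (.node 4 (.node 2 (.node 1 (.leaf 0x8888888888) (.leaf 0x8888888888)) (.node 1 (.leaf 0x8888888888) (.leaf 0x8888888888))) (.node 2 (.node 1 (.leaf 0x8888888888) (.leaf 0x8888888888)) (.node 1 (.leaf 0x8888888888) (.leaf 0x8888888888))))) (.node 8 (.node 4 (.node 2 (.node 1 (.leaf 0x8888888888) (.leaf 0x8888888888)) (.node 1 (.leaf 0x8888888888) (.leaf 0x8888888888))) (.node 2 (.node 1 (.leaf 0x8888888888) (.leaf 0x8888888888)) (.node 1 (.leaf 0x8888888888) (.leaf 0x8888888888))))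 (.node 4 (.node 2 (.node 1 (.leaf 0x8888888888) (.leaf 0x8888888888)) (.node 1 (.leaf 0x8888888888) (.leaf 0x8888888888))) (.node 2 (.node 1 (.leaf 0x8888888888) (.leaf 0x8888888888)) (.node 1 (.leaf 0x8888888888) (.leaf 0x8888888888)))))))

/-- Table data. -/
def tabVB_0_5 : Tab :=
  (.node 32 (.node 16 (.node 8 (.node 4 (.node 2 (.node 1 (.leaf 0x8888888888) (.leaf 0x8888888888)) (.node 1 (.leaf 0x8888888888) (.leaf 0x8888888888))) (.node 2 (.node 1 (.leaf 0x8888888888) (.leaf 0x8888888888)) (.node 1 (.leaf 0x8888888888) (.leaf 0x8888888888)))) (.node 4 (.node 2 (.node 1 (.leaf 0x8888888888) (.leaf 0x8888888888)) (.node 1 (.leaf 0x8888888888) (.leaf 0x8888888888))) (.node 2 (.node 1 (.leaf 0x8888888888) (.leaf 0x8888888888)) (.node 1 (.leaf 0x8888888888) (.leaf 0x8888888888))))) (.node 8 (.node 4 (.node 2 (.node 1 (.leaf 0x8888888888) (.leaf 0x8888888888)) (.node 1 (.leaf 0x8888888888) (.leaf 0x8888888888))) (.node 2 (.node 1 (.leaf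 0x8888888888) (.leaf 0x8888888888)) (.node 1 (.leaf 0x8888888888) (.leaf 0x8888888888)))) (.node 4 (.node 2 (.node 1 (.leaf 0x8888888888) (.leaf 0x8888888888)) (.node 1 (.leaf 0x8888888888) (.leaf 0x8888888888))) (.node 2 (.node 1 (.leaf 0x8888888888) (.leaf 0x8888888888)) (.node 1 (.leaf 0x8888888888) (.leaf 0x8888888888)))))) (.node 16 (.node 8 (.node 4 (.node 2 (.node 1 (.leaf 0x8888888888) (.leaf 0x8888888888)) (.node 1 (.leaf 0x8888888888) (.leaf 0x8888888888))) (.node 2 (.node 1 (.leaf 0x8888888888) (.leaf 0x8888888888)) (.node 1 (.leaf 0x8888888888) (.leaf 0x8888888888)))) (.node 4 (.node 2 (.node 1 (.leaf 0x8888888888) (.leaf 0x8888888888)) (.node 1 (.leaf 0x8888888888) (.leaf 0x8888888888))) (.node 2 (.node 1 (.leaf 0x8888888888) (.leaf 0x8888888888)) (.node 1 (.leaf 0x8888888888) (.leaf 0x8888888888))))) (.node 8 (.node 4 (.node 2 (.node 1 (.leaf 0x8888888888) (.leaf 0x8888888888)) (.node 1 (.leaf 0x8888888888) (.leaf 0x8888888888)))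 (.node 2 (.node 1 (.leaf 0x8888888888) (.leaf 0x8888888888)) (.node 1 (.leaf 0x8888888888) (.leaf 0x8888888888)))) (.node 4 (.node 2 (.node 1 (.leaf 0x8888888888) (.leaf 0x8888888888)) (.node 1 (.leaf 0x8888888888) (.leaf 0x8888888888))) (.node 2 (.node 1 (.leaf 0x8888888888) (.leaf 0x8888888888)) (.node 1 (.leaf 0x8888888888) (.leaf 0x8888888888)))))))

/-- Table data. -/
def tabVB_0_6 : Tab :=
  (.node 32 (.node 16 (.node 8 (.node 4 (.node 2 (.node 1 (.leaf 0x8888888888) (.leaf 0x8888888888)) (.node 1 (.leaf 0x8888888888) (.leaf 0x8888888888))) (.node 2 (.node 1 (.leaf 0x8888888888) (.leaf 0x8888888888)) (.node 1 (.leaf 0x8888888888) (.leaf 0x8888888888)))) (.node 4 (.node 2 (.node 1 (.leaf 0x8888888888) (.leaf 0x8888888888)) (.node 1 (.leaf 0x8888888888) (.leaf 0x8888888888))) (.node 2 (.node 1 (.leaf 0x8888888888) (.leaf 0x8888888888)) (.node 1 (.leaf 0x8888888888) (.leaf 0x8888888888))))) (.node 8 (.node 4 (.node 2 (.node 1 (.leaf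 0x8888888888) (.leaf 0x8888888888)) (.node 1 (.leaf 0x8888888888) (.leaf 0x8888888888))) (.node 2 (.node 1 (.leaf 0x8888888888) (.leaf 0x8888888888)) (.node 1 (.leaf 0x8888888888) (.leaf 0x8888888888)))) (.node 4 (.node 2 (.node 1 (.leaf 0x8888888888) (.leaf 0x8888888888)) (.node 1 (.leaf 0x8888888888) (.leaf 0x8888888888))) (.node 2 (.node 1 (.leaf 0x8888888888) (.leaf 0x8888888888)) (.node 1 (.leaf 0x8888888888) (.leaf 0x8888888888)))))) (.node 16 (.node 8 (.node 4 (.node 2 (.node 1 (.leaf 0x8888888888) (.leaf 0x8888888888)) (.node 1 (.leaf 0x8888888888) (.leaf 0x8888888888))) (.node 2 (.node 1 (.leaf 0x8888888888) (.leaf 0x8888888888)) (.node 1 (.leaf 0x8888888888) (.leaf 0x8888888888)))) (.node 4 (.node 2 (.node 1 (.leaf 0x8888888888) (.leaf 0x8888888888)) (.node 1 (.leaf 0x8888888888) (.leaf 0x8888888888))) (.node 2 (.node 1 (.leaf 0x8888888888) (.leaf 0x8888888888)) (.node 1 (.leaf 0x8888888888) (.leaf 0x8888888888))))) (.node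 8 (.node 4 (.node 2 (.node 1 (.leaf 0x8888888888) (.leaf 0x8888888888)) (.node 1 (.leaf 0x8888888888) (.leaf 0x8888888888))) (.node 2 (.node 1 (.leaf 0x8888888888) (.leaf 0x8888888888)) (.node 1 (.leaf 0x8888888888) (.leaf 0x8888888888)))) (.node 4 (.node 2 (.node 1 (.leaf 0x8888888888) (.leaf 0x8888888888)) (.node 1 (.leaf 0x8888888888) (.leaf 0x8888888888))) (.node 2 (.node 1 (.leaf 0x8888888888) (.leaf 0x8888888888)) (.node 1 (.leaf 0x8888888888) (.leaf 0x8888888888)))))))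

/-- Table data. -/
def tabVB_0_7 : Tab :=
  (.node 32 (.node 16 (.node 8 (.node 4 (.node 2 (.node 1 (.leaf 0x8888888888) (.leaf 0x8888888888)) (.node 1 (.leaf 0x8888888888) (.leaf 0x8888888888))) (.node 2 (.node 1 (.leaf 0x8888888888) (.leaf 0x8888888888)) (.node 1 (.leaf 0x8888888888) (.leaf 0x8888888888)))) (.node 4 (.node 2 (.node 1 (.leaf 0x8888888888) (.leaf 0x8888888888)) (.node 1 (.leaf 0x8888888888) (.leaf 0x8888888888))) (.node 2 (.node 1 (.leaf 0x8888888888) (.leaf 0x8888888888)) (.node 1 (.leaf 0x8888888888) (.leaf 0x8888888888))))) (.node 8 (.node 4 (.node 2 (.node 1 (.leaf 0x8888888888) (.leaf 0x8888888888)) (.node 1 (.leaf 0x8888888888) (.leaf 0x8888888888))) (.node 2 (.node 1 (.leaf 0x8888888888) (.leaf 0x8888888888)) (.node 1 (.leaf 0x8888888888) (.leaf 0x8888888888)))) (.node 4 (.node 2 (.node 1 (.leaf 0x8888888888) (.leaf 0x8888888888)) (.node 1 (.leaf 0x8888888888) (.leaf 0x8888888888))) (.node 2 (.node 1 (.leaf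 0x8888888888) (.leaf 0x8888888888)) (.node 1 (.leaf 0x8888888888) (.leaf 0x8888888888)))))) (.node 16 (.node 8 (.node 4 (.node 2 (.node 1 (.leaf 0x8888888888) (.leaf 0x8888888888)) (.node 1 (.leaf 0x8888888888) (.leaf 0x8888888888))) (.node 2 (.node 1 (.leaf 0x8888888888) (.leaf 0x8888888888)) (.node 1 (.leaf 0x8888888888) (.leaf 0x8888888888)))) (.node 4 (.node 2 (.node 1 (.leaf 0x8888888888) (.leaf 0x8888888888)) (.node 1 (.leaf 0x8888888888) (.leaf 0x8888888888))) (.node 2 (.node 1 (.leaf 0x8888888888) (.leaf 0x8888888888)) (.node 1 (.leaf 0x8888888888) (.leaf 0x8888888888))))) (.node 8 (.node 4 (.node 2 (.node 1 (.leaf 0x8888888888) (.leaf 0x8888888888)) (.node 1 (.leaf 0x8888888888) (.leaf 0x8888888888))) (.node 2 (.node 1 (.leaf 0x8888888888) (.leaf 0x8888888888)) (.node 1 (.leaf 0x8888888888) (.leaf 0x8888888888)))) (.node 4 (.node 2 (.node 1 (.leaf 0x8888888888) (.leaf 0x8888888888)) (.node 1 (.leaf 0x8888888888) (.leaf 0x8888888888)))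 (.node 2 (.node 1 (.leaf 0x8888888888) (.leaf 0x8888888888)) (.node 1 (.leaf 0x8888888888) (.leaf 0x8888888888)))))))

/-- Table data. -/
def tabVB_0_8 : Tab :=
  (.node 32 (.node 16 (.node 8 (.node 4 (.node 2 (.node 1 (.leaf 0x8888888888) (.leaf 0x8888888888)) (.node 1 (.leaf 0x8888888888) (.leaf 0x8888888888))) (.node 2 (.node 1 (.leaf 0x8888888888) (.leaf 0x8888888888)) (.node 1 (.leaf 0x8888888888) (.leaf 0x8888888888)))) (.node 4 (.node 2 (.node 1 (.leaf 0x8888888888) (.leaf 0x8888888888)) (.node 1 (.leaf 0x8888888888) (.leaf 0x8888888888))) (.node 2 (.node 1 (.leaf 0x8888888888) (.leaf 0x8888888888)) (.node 1 (.leaf 0x8888888888) (.leaf 0x8888888888))))) (.node 8 (.node 4 (.node 2 (.node 1 (.leaf 0x8888888888) (.leaf 0x8888888888)) (.node 1 (.leaf 0x8888888888) (.leaf 0x8888888888))) (.node 2 (.node 1 (.leaf 0x8888888888) (.leaf 0x8888888888)) (.node 1 (.leaf 0x8888888888) (.leaf 0x8888888888)))) (.node 4 (.node 2 (.node 1 (.leaf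 0x8888888888) (.leaf 0x8888888888)) (.node 1 (.leaf 0x8888888888) (.leaf 0x8888888888))) (.node 2 (.node 1 (.leaf 0x8888888888) (.leaf 0x8888888888)) (.node 1 (.leaf 0x8888888888) (.leaf 0x8888888888)))))) (.node 16 (.node 8 (.node 4 (.node 2 (.node 1 (.leaf 0x8888888888) (.leaf 0x8888888888)) (.node 1 (.leaf 0x8888888888) (.leaf 0x8888888888))) (.node 2 (.node 1 (.leaf 0x8888888888) (.leaf 0x8888888888)) (.node 1 (.leaf 0x8888888888) (.leaf 0x8888888888)))) (.node 4 (.node 2 (.node 1 (.leaf 0x8888888888) (.leaf 0x8888888888)) (.node 1 (.leaf 0x8888888888) (.leaf 0x8888888888))) (.node 2 (.node 1 (.leaf 0x8888888888) (.leaf 0x8888888888)) (.node 1 (.leaf 0x8888888888) (.leaf 0x8888888888))))) (.node 8 (.node 4 (.node 2 (.node 1 (.leaf 0x8888888888) (.leaf 0x8888888888)) (.node 1 (.leaf 0x8888888888) (.leaf 0x8888888888))) (.node 2 (.node 1 (.leaf 0x8888888888) (.leaf 0x8888888888)) (.node 1 (.leaf 0x8888888888) (.leaf 0x8888888888))))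 (.node 4 (.node 2 (.node 1 (.leaf 0x8888888888) (.leaf 0x8888888888)) (.node 1 (.leaf 0x8888888888) (.leaf 0x8888888888))) (.node 2 (.node 1 (.leaf 0x8888888888) (.leaf 0x8888888888)) (.node 1 (.leaf 0x8888888888) (.leaf 0x8888888888)))))))

/-- Table data. -/
def tabVB_0_9 : Tab :=
  (.node 32 (.node 16 (.node 8 (.node 4 (.node 2 (.node 1 (.leaf 0x8888888888) (.leaf 0x8888888888)) (.node 1 (.leaf 0x8888888888) (.leaf 0x8888888888))) (.node 2 (.node 1 (.leaf 0x8888888888) (.leaf 0x8888888888)) (.node 1 (.leaf 0x8888888888) (.leaf 0x8888888888)))) (.node 4 (.node 2 (.node 1 (.leaf 0x8888888888) (.leaf 0x8888888888)) (.node 1 (.leaf 0x8888888888) (.leaf 0x8888888888))) (.node 2 (.node 1 (.leaf 0x8888888888) (.leaf 0x8888888888)) (.node 1 (.leaf 0x8888888888) (.leaf 0x8888888888))))) (.node 8 (.node 4 (.node 2 (.node 1 (.leaf 0x8888888888) (.leaf 0x8888888888)) (.node 1 (.leaf 0x8888888888) (.leaf 0x8888888888))) (.node 2 (.node 1 (.leaf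 0x8888888888) (.leaf 0x8888888888)) (.node 1 (.leaf 0x8888888888) (.leaf 0x8888888888)))) (.node 4 (.node 2 (.node 1 (.leaf 0x8888888888) (.leaf 0x8888888888)) (.node 1 (.leaf 0x8888888888) (.leaf 0x8888888888))) (.node 2 (.node 1 (.leaf 0x8888888888) (.leaf 0x8888888888)) (.node 1 (.leaf 0x8888888888) (.leaf 0x8888888888)))))) (.node 16 (.node 8 (.node 4 (.node 2 (.node 1 (.leaf 0x8888888888) (.leaf 0x8888888888)) (.node 1 (.leaf 0x8888888888) (.leaf 0x8888888888))) (.node 2 (.node 1 (.leaf 0x8888888888) (.leaf 0x8888888888)) (.node 1 (.leaf 0x8888888888) (.leaf 0x8888888888)))) (.node 4 (.node 2 (.node 1 (.leaf 0x8888888888) (.leaf 0x8888888888)) (.node 1 (.leaf 0x8888888888) (.leaf 0x8888888888))) (.node 2 (.node 1 (.leaf 0x8888888888) (.leaf 0x8888888888)) (.node 1 (.leaf 0x8888888888) (.leaf 0x8888888888))))) (.node 8 (.node 4 (.node 2 (.node 1 (.leaf 0x8888888888) (.leaf 0x8888888888)) (.node 1 (.leaf 0x8888888888) (.leaf 0x8888888888)))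 (.node 2 (.node 1 (.leaf 0x8888888888) (.leaf 0x8888888888)) (.node 1 (.leaf 0x8888888888) (.leaf 0x8888888888)))) (.node 4 (.node 2 (.node 1 (.leaf 0x8888888888) (.leaf 0x8888888888)) (.node 1 (.leaf 0x8888888888) (.leaf 0x8888888888))) (.node 2 (.node 1 (.leaf 0x8888888888) (.leaf 0x8888888888)) (.node 1 (.leaf 0x8888888888) (.leaf 0x8888888888)))))))

/-- Table data. -/
def tabVB_0_10 : Tab :=
  (.node 32 (.node 16 (.node 8 (.node 4 (.node 2 (.node 1 (.leaf 0x8888888888) (.leaf 0x8888888888)) (.node 1 (.leaf 0x8888888888) (.leaf 0x8888888888))) (.node 2 (.node 1 (.leaf 0x8888888888) (.leaf 0x8888888888)) (.node 1 (.leaf 0x8888888888) (.leaf 0x8888888888)))) (.node 4 (.node 2 (.node 1 (.leaf 0x8888888888) (.leaf 0x8888888888)) (.node 1 (.leaf 0x8888888888) (.leaf 0x8888888888))) (.node 2 (.node 1 (.leaf 0x8888888888) (.leaf 0x8888888888)) (.node 1 (.leaf 0x8888888888) (.leaf 0x8888888888))))) (.node 8 (.node 4 (.node 2 (.node 1 (.leaf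 0x8888888888) (.leaf 0x8888888888)) (.node 1 (.leaf 0x8888888888) (.leaf 0x8888888888))) (.node 2 (.node 1 (.leaf 0x8888888888) (.leaf 0x8888888888)) (.node 1 (.leaf 0x8888888888) (.leaf 0x8888888888)))) (.node 4 (.node 2 (.node 1 (.leaf 0x8888888888) (.leaf 0x8888888888)) (.node 1 (.leaf 0x8888888888) (.leaf 0x8888888888))) (.node 2 (.node 1 (.leaf 0x8888888888) (.leaf 0x8888888888)) (.node 1 (.leaf 0x8888888888) (.leaf 0x8888888888)))))) (.node 16 (.node 8 (.node 4 (.node 2 (.node 1 (.leaf 0x8888888888) (.leaf 0x8888888888)) (.node 1 (.leaf 0x8888888888) (.leaf 0x8888888888))) (.node 2 (.node 1 (.leaf 0x8888888888) (.leaf 0x8888888888)) (.node 1 (.leaf 0x8888888888) (.leaf 0x8888888888)))) (.node 4 (.node 2 (.node 1 (.leaf 0x8888888888) (.leaf 0x8888888888)) (.node 1 (.leaf 0x8888888888) (.leaf 0x8888888888))) (.node 2 (.node 1 (.leaf 0x8888888888) (.leaf 0x8888888888)) (.node 1 (.leaf 0x8888888888) (.leaf 0x8888888888))))) (.node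 8 (.node 4 (.node 2 (.node 1 (.leaf 0x8888888888) (.leaf 0x8888888888)) (.node 1 (.leaf 0x8888888888) (.leaf 0x8888888888))) (.node 2 (.node 1 (.leaf 0x8888888888) (.leaf 0x8888888888)) (.node 1 (.leaf 0x8888888888) (.leaf 0x8888888888)))) (.node 4 (.node 2 (.node 1 (.leaf 0x8888888888) (.leaf 0x8888888888)) (.node 1 (.leaf 0x8888888888) (.leaf 0x8888888888))) (.node 2 (.node 1 (.leaf 0x8888888888) (.leaf 0x8888888888)) (.node 1 (.leaf 0x8888888888) (.leaf 0x8888888888)))))))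

/-- Table data. -/
def tabVB_0_11 : Tab :=
  (.node 32 (.node 16 (.node 8 (.node 4 (.node 2 (.node 1 (.leaf 0x8888888888) (.leaf 0x8888888888)) (.node 1 (.leaf 0x8888888888) (.leaf 0x8888888888))) (.node 2 (.node 1 (.leaf 0x8888888888) (.leaf 0x8888888888)) (.node 1 (.leaf 0x8888888888) (.leaf 0x8888888888)))) (.node 4 (.node 2 (.node 1 (.leaf 0x8888888888) (.leaf 0x8888888888)) (.node 1 (.leaf 0x8888888888) (.leaf 0x8888888888))) (.node 2 (.node 1 (.leaf 0x8888888888) (.leaf 0x8888888888)) (.node 1 (.leaf 0x8888888888) (.leaf 0x8888888888))))) (.node 8 (.node 4 (.node 2 (.node 1 (.leaf 0x8888888888) (.leaf 0x8888888888)) (.node 1 (.leaf 0x8888888888) (.leaf 0x8888888888))) (.node 2 (.node 1 (.leaf 0x8888888888) (.leaf 0x8888888888)) (.node 1 (.leaf 0x8888888888) (.leaf 0x8888888888)))) (.node 4 (.node 2 (.node 1 (.leaf 0x8888888888) (.leaf 0x8888888888)) (.node 1 (.leaf 0x8888888888) (.leaf 0x8888888888))) (.node 2 (.node 1 (.leaf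 0x8888888888) (.leaf 0x8888888888)) (.node 1 (.leaf 0x8888888888) (.leaf 0x8888888888)))))) (.node 16 (.node 8 (.node 4 (.node 2 (.node 1 (.leaf 0x8888888888) (.leaf 0x8888888888)) (.node 1 (.leaf 0x8888888888) (.leaf 0x8888888888))) (.node 2 (.node 1 (.leaf 0x8888888888) (.leaf 0x8888888888)) (.node 1 (.leaf 0x8888888888) (.leaf 0x8888888888)))) (.node 4 (.node 2 (.node 1 (.leaf 0x8888888888) (.leaf 0x8888888888)) (.node 1 (.leaf 0x8888888888) (.leaf 0x8888888888))) (.node 2 (.node 1 (.leaf 0x8888888888) (.leaf 0x8888888888)) (.node 1 (.leaf 0x8888888888) (.leaf 0x8888888888))))) (.node 8 (.node 4 (.node 2 (.node 1 (.leaf 0x8888888888) (.leaf 0x8888888888)) (.node 1 (.leaf 0x8888888888) (.leaf 0x8888888888))) (.node 2 (.node 1 (.leaf 0x8888888888) (.leaf 0x8888888888)) (.node 1 (.leaf 0x8888888888) (.leaf 0x8888888888)))) (.node 4 (.node 2 (.node 1 (.leaf 0x8888888888) (.leaf 0x8888888888)) (.node 1 (.leaf 0x8888888888) (.leaf 0x8888888888)))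 (.node 2 (.node 1 (.leaf 0x8888888888) (.leaf 0x8888888888)) (.node 1 (.leaf 0x8888888888) (.leaf 0x8888888888)))))))

/-- Table data. -/
def tabVB_0_12 : Tab :=
  (.node 32 (.node 16 (.node 8 (.node 4 (.node 2 (.node 1 (.leaf 0x8888888888) (.leaf 0x8888888888)) (.node 1 (.leaf 0x8888888888) (.leaf 0x8888888888))) (.node 2 (.node 1 (.leaf 0x8888888888) (.leaf 0x8888888888)) (.node 1 (.leaf 0x8888888888) (.leaf 0x8888888888)))) (.node 4 (.node 2 (.node 1 (.leaf 0x8888888888) (.leaf 0x8888888888)) (.node 1 (.leaf 0x8888888888) (.leaf 0x8888888888))) (.node 2 (.node 1 (.leaf 0x8888888888) (.leaf 0x8888888888)) (.node 1 (.leaf 0x8888888888) (.leaf 0x8888888888))))) (.node 8 (.node 4 (.node 2 (.node 1 (.leaf 0x8888888888) (.leaf 0x8888888888)) (.node 1 (.leaf 0x8888888888) (.leaf 0x8888888888))) (.node 2 (.node 1 (.leaf 0x8888888888) (.leaf 0x8888888888)) (.node 1 (.leaf 0x8888888888) (.leaf 0x8888888888)))) (.node 4 (.node 2 (.node 1 (.leaf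 0x8888888888) (.leaf 0x8888888888)) (.node 1 (.leaf 0x8888888888) (.leaf 0x8888888888))) (.node 2 (.node 1 (.leaf 0x8888888888) (.leaf 0x8888888888)) (.node 1 (.leaf 0x8888888888) (.leaf 0x8888888888)))))) (.node 16 (.node 8 (.node 4 (.node 2 (.node 1 (.leaf 0x8888888888) (.leaf 0x8888888888)) (.node 1 (.leaf 0x8888888888) (.leaf 0x8888888888))) (.node 2 (.node 1 (.leaf 0x8888888888) (.leaf 0x8888888888)) (.node 1 (.leaf 0x8888888888) (.leaf 0x8888888888)))) (.node 4 (.node 2 (.node 1 (.leaf 0x8888888888) (.leaf 0x8888888888)) (.node 1 (.leaf 0x8888888888) (.leaf 0x8888888888))) (.node 2 (.node 1 (.leaf 0x8888888888) (.leaf 0x8888888888)) (.node 1 (.leaf 0x8888888888) (.leaf 0x8888888888))))) (.node 8 (.node 4 (.node 2 (.node 1 (.leaf 0x8888888888) (.leaf 0x8888888888)) (.node 1 (.leaf 0x8888888888) (.leaf 0x8888888888))) (.node 2 (.node 1 (.leaf 0x8888888888) (.leaf 0x8888888888)) (.node 1 (.leaf 0x8888888888) (.leaf 0x8888888888))))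 (.node 4 (.node 2 (.node 1 (.leaf 0x8888888888) (.leaf 0x8888888888)) (.node 1 (.leaf 0x8888888888) (.leaf 0x8888888888))) (.node 2 (.node 1 (.leaf 0x8888888888) (.leaf 0x8888888888)) (.node 1 (.leaf 0x8888888888) (.leaf 0x8888888888)))))))

/-- Table data. -/
def tabVB_0_13 : Tab :=
  (.node 32 (.node 16 (.node 8 (.node 4 (.node 2 (.node 1 (.leaf 0x8888888888) (.leaf 0x8888888888)) (.node 1 (.leaf 0x8888888888) (.leaf 0x8888888888))) (.node 2 (.node 1 (.leaf 0x8888888888) (.leaf 0x8888888888)) (.node 1 (.leaf 0x8888888888) (.leaf 0x8888888888)))) (.node 4 (.node 2 (.node 1 (.leaf 0x8888888888) (.leaf 0x8888888888)) (.node 1 (.leaf 0x8888888888) (.leaf 0x8888888888))) (.node 2 (.node 1 (.leaf 0x8888888888) (.leaf 0x8888888888)) (.node 1 (.leaf 0x8888888888) (.leaf 0x8888888888))))) (.node 8 (.node 4 (.node 2 (.node 1 (.leaf 0x8888888888) (.leaf 0x8888888888)) (.node 1 (.leaf 0x8888888888) (.leaf 0x8888888888))) (.node 2 (.node 1 (.leaf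 0x8888888888) (.leaf 0x8888888888)) (.node 1 (.leaf 0x8888888888) (.leaf 0x8888888888)))) (.node 4 (.node 2 (.node 1 (.leaf 0x8888888888) (.leaf 0x8888888888)) (.node 1 (.leaf 0x8888888888) (.leaf 0x8888888888))) (.node 2 (.node 1 (.leaf 0x8888888888) (.leaf 0x8888888888)) (.node 1 (.leaf 0x8888888888) (.leaf 0x8888888888)))))) (.node 16 (.node 8 (.node 4 (.node 2 (.node 1 (.leaf 0x8888888888) (.leaf 0x8888888888)) (.node 1 (.leaf 0x8888888888) (.leaf 0x8888888888))) (.node 2 (.node 1 (.leaf 0x8888888888) (.leaf 0x8888888888)) (.node 1 (.leaf 0x8888888888) (.leaf 0x8888888888)))) (.node 4 (.node 2 (.node 1 (.leaf 0x8888888888) (.leaf 0x8888888888)) (.node 1 (.leaf 0x8888888888) (.leaf 0x8888888888))) (.node 2 (.node 1 (.leaf 0x8888888888) (.leaf 0x8888888888)) (.node 1 (.leaf 0x8888888888) (.leaf 0x8888888888))))) (.node 8 (.node 4 (.node 2 (.node 1 (.leaf 0x8888888888) (.leaf 0x8888888888)) (.node 1 (.leaf 0x8888888888) (.leaf 0x8888888888)))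 (.node 2 (.node 1 (.leaf 0x8888888888) (.leaf 0x8888888888)) (.node 1 (.leaf 0x8888888888) (.leaf 0x8888888888)))) (.node 4 (.node 2 (.node 1 (.leaf 0x8888888888) (.leaf 0x8888888888)) (.node 1 (.leaf 0x8888888888) (.leaf 0x8888888888))) (.node 2 (.node 1 (.leaf 0x8888888888) (.leaf 0x8888888888)) (.node 1 (.leaf 0x8888888888) (.leaf 0x8888888888)))))))

/-- Table data. -/
def tabVB_0_14 : Tab :=
  (.node 32 (.node 16 (.node 8 (.node 4 (.node 2 (.node 1 (.leaf 0x8888888888) (.leaf 0x8888888888)) (.node 1 (.leaf 0x8888888888) (.leaf 0x8888888888))) (.node 2 (.node 1 (.leaf 0x8888888888) (.leaf 0x8888888888)) (.node 1 (.leaf 0x8888888888) (.leaf 0x8888888888)))) (.node 4 (.node 2 (.node 1 (.leaf 0x8888888888) (.leaf 0x8888888888)) (.node 1 (.leaf 0x8888888888) (.leaf 0x8888888888))) (.node 2 (.node 1 (.leaf 0x8888888888) (.leaf 0x8888888888)) (.node 1 (.leaf 0x8888888888) (.leaf 0x8888888888))))) (.node 8 (.node 4 (.node 2 (.node 1 (.leaf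 0x8888888888) (.leaf 0x8888888888)) (.node 1 (.leaf 0x8888888888) (.leaf 0x8888888888))) (.node 2 (.node 1 (.leaf 0x8888888888) (.leaf 0x8888888888)) (.node 1 (.leaf 0x8888888888) (.leaf 0x8888888888)))) (.node 4 (.node 2 (.node 1 (.leaf 0x8888888888) (.leaf 0x8888888888)) (.node 1 (.leaf 0x8888888888) (.leaf 0x8888888888))) (.node 2 (.node 1 (.leaf 0x8888888888) (.leaf 0x8888888888)) (.node 1 (.leaf 0x8888888888) (.leaf 0x8888888888)))))) (.node 16 (.node 8 (.node 4 (.node 2 (.node 1 (.leaf 0x8888888888) (.leaf 0x8888888888)) (.node 1 (.leaf 0x8888888888) (.leaf 0x8888888888))) (.node 2 (.node 1 (.leaf 0x8888888888) (.leaf 0x8888888888)) (.node 1 (.leaf 0x8888888888) (.leaf 0x8888888888)))) (.node 4 (.node 2 (.node 1 (.leaf 0x8888888888) (.leaf 0x8888888888)) (.node 1 (.leaf 0x8888888888) (.leaf 0x8888888888))) (.node 2 (.node 1 (.leaf 0x8888888888) (.leaf 0x8888888888)) (.node 1 (.leaf 0x8888888888) (.leaf 0x8888888888))))) (.node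 8 (.node 4 (.node 2 (.node 1 (.leaf 0x8888888888) (.leaf 0x8888888888)) (.node 1 (.leaf 0x8888888888) (.leaf 0x8888888888))) (.node 2 (.node 1 (.leaf 0x8888888888) (.leaf 0x8888888888)) (.node 1 (.leaf 0x8888888888) (.leaf 0x8888888888)))) (.node 4 (.node 2 (.node 1 (.leaf 0x8888888888) (.leaf 0x8888888888)) (.node 1 (.leaf 0x8888888888) (.leaf 0x8888888888))) (.node 2 (.node 1 (.leaf 0x8888888888) (.leaf 0x8888888888)) (.node 1 (.leaf 0x8888888888) (.leaf 0x8888888888)))))))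

/-- Table data. -/
def tabVB_0_15 : Tab :=
  (.node 32 (.node 16 (.node 8 (.node 4 (.node 2 (.node 1 (.leaf 0x8888888888) (.leaf 0x8888888888)) (.node 1 (.leaf 0x8888888888) (.leaf 0x8888888888))) (.node 2 (.node 1 (.leaf 0x8888888888) (.leaf 0x8888888888)) (.node 1 (.leaf 0x8888888888) (.leaf 0x8888888888)))) (.node 4 (.node 2 (.node 1 (.leaf 0x8888888888) (.leaf 0x8888888888)) (.node 1 (.leaf 0x8888888888) (.leaf 0x8888888888))) (.node 2 (.node 1 (.leaf 0x8888888888) (.leaf 0x8888888888)) (.node 1 (.leaf 0x8888888888) (.leaf 0x8888888888))))) (.node 8 (.node 4 (.node 2 (.node 1 (.leaf 0x8888888888) (.leaf 0x8888888888)) (.node 1 (.leaf 0x8888888888) (.leaf 0x8888888888))) (.node 2 (.node 1 (.leaf 0x8888888888) (.leaf 0x8888888888)) (.node 1 (.leaf 0x8888888888) (.leaf 0x8888888888)))) (.node 4 (.node 2 (.node 1 (.leaf 0x8888888888) (.leaf 0x8888888888)) (.node 1 (.leaf 0x8888888888) (.leaf 0x8888888888))) (.node 2 (.node 1 (.leaf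 0x8888888888) (.leaf 0x8888888888)) (.node 1 (.leaf 0x8888888888) (.leaf 0x8888888888)))))) (.node 16 (.node 8 (.node 4 (.node 2 (.node 1 (.leaf 0x8888888888) (.leaf 0x8888888888)) (.node 1 (.leaf 0x8888888888) (.leaf 0x8888888888))) (.node 2 (.node 1 (.leaf 0x8888888888) (.leaf 0x8888888888)) (.node 1 (.leaf 0x8888888888) (.leaf 0x8888888888)))) (.node 4 (.node 2 (.node 1 (.leaf 0x8888888888) (.leaf 0x8888888888)) (.node 1 (.leaf 0x8888888888) (.leaf 0x8888888888))) (.node 2 (.node 1 (.leaf 0x8888888888) (.leaf 0x8888888888)) (.node 1 (.leaf 0x8888888888) (.leaf 0x8888888888))))) (.node 8 (.node 4 (.node 2 (.node 1 (.leaf 0x8888888888) (.leaf 0x8888888888)) (.node 1 (.leaf 0x8888888888) (.leaf 0x8888888888))) (.node 2 (.node 1 (.leaf 0x8888888888) (.leaf 0x8888888888)) (.node 1 (.leaf 0x8888888888) (.leaf 0x8888888888)))) (.node 4 (.node 2 (.node 1 (.leaf 0x8888888888) (.leaf 0x8888888888)) (.node 1 (.leaf 0x8888888888) (.leaf 0x8888888888)))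 (.node 2 (.node 1 (.leaf 0x8888888888) (.leaf 0x8888888888)) (.node 1 (.leaf 0x8888888888) (.leaf 0x8888888888)))))))

/-- Table data. -/
def tabVB_0_16 : Tab :=
  (.node 32 (.node 16 (.node 8 (.node 4 (.node 2 (.node 1 (.leaf 0x8888888888) (.leaf 0x8888888888)) (.node 1 (.leaf 0x8888888888) (.leaf 0x8888888888))) (.node 2 (.node 1 (.leaf 0x8888888888) (.leaf 0x8888888888)) (.node 1 (.leaf 0x8888888888) (.leaf 0x8888888888)))) (.node 4 (.node 2 (.node 1 (.leaf 0x8888888888) (.leaf 0x8888888888)) (.node 1 (.leaf 0x8888888888) (.leaf 0x8888888888))) (.node 2 (.node 1 (.leaf 0x8888888888) (.leaf 0x8888888888)) (.node 1 (.leaf 0x8888888888) (.leaf 0x8888888888))))) (.node 8 (.node 4 (.node 2 (.node 1 (.leaf 0x8888888888) (.leaf 0x8888888888)) (.node 1 (.leaf 0x8888888888) (.leaf 0x8888888888))) (.node 2 (.node 1 (.leaf 0x8888888888) (.leaf 0x8888888888)) (.node 1 (.leaf 0x8888888888) (.leaf 0x8888888888)))) (.node 4 (.node 2 (.node 1 (.leaf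 0x8888888888) (.leaf 0x8888888888)) (.node 1 (.leaf 0x8888888888) (.leaf 0x8888888888))) (.node 2 (.node 1 (.leaf 0x8888888888) (.leaf 0x8888888888)) (.node 1 (.leaf 0x8888888888) (.leaf 0x8888888888)))))) (.node 16 (.node 8 (.node 4 (.node 2 (.node 1 (.leaf 0x8888888888) (.leaf 0x8888888888)) (.node 1 (.leaf 0x8888888888) (.leaf 0x8888888888))) (.node 2 (.node 1 (.leaf 0x8888888888) (.leaf 0x8888888888)) (.node 1 (.leaf 0x8888888888) (.leaf 0x8888888888)))) (.node 4 (.node 2 (.node 1 (.leaf 0x8888888888) (.leaf 0x8888888888)) (.node 1 (.leaf 0x8888888888) (.leaf 0x8888888888))) (.node 2 (.node 1 (.leaf 0x8888888888) (.leaf 0x8888888888)) (.node 1 (.leaf 0x8888888888) (.leaf 0x8888888888))))) (.node 8 (.node 4 (.node 2 (.node 1 (.leaf 0x8888888888) (.leaf 0x8888888888)) (.node 1 (.leaf 0x8888888888) (.leaf 0x8888888888))) (.node 2 (.node 1 (.leaf 0x8888888888) (.leaf 0x8888888888)) (.node 1 (.leaf 0x8888888888) (.leaf 0x8888888888))))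 (.node 4 (.node 2 (.node 1 (.leaf 0x8888888888) (.leaf 0x8888888888)) (.node 1 (.leaf 0x8888888888) (.leaf 0x8888888888))) (.node 2 (.node 1 (.leaf 0x8888888888) (.leaf 0x8888888888)) (.node 1 (.leaf 0x8888888888) (.leaf 0x8888888888)))))))

/-- Table data. -/
def tabVB_0_17 : Tab :=
  (.node 32 (.node 16 (.node 8 (.node 4 (.node 2 (.node 1 (.leaf 0x8888888888) (.leaf 0x8888888888)) (.node 1 (.leaf 0x8888888888) (.leaf 0x8888888888))) (.node 2 (.node 1 (.leaf 0x8888888888) (.leaf 0x8888888888)) (.node 1 (.leaf 0x8888888888) (.leaf 0x8888888888)))) (.node 4 (.node 2 (.node 1 (.leaf 0x8888888888) (.leaf 0x8888888888)) (.node 1 (.leaf 0x8888888888) (.leaf 0x8888888888))) (.node 2 (.node 1 (.leaf 0x8888888888) (.leaf 0x8888888888)) (.node 1 (.leaf 0x8888888888) (.leaf 0x8888888888))))) (.node 8 (.node 4 (.node 2 (.node 1 (.leaf 0x8888888888) (.leaf 0x8888888888)) (.node 1 (.leaf 0x8888888888) (.leaf 0x8888888888))) (.node 2 (.node 1 (.leaf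 0x8888888888) (.leaf 0x8888888888)) (.node 1 (.leaf 0x8888888888) (.leaf 0x8888888888)))) (.node 4 (.node 2 (.node 1 (.leaf 0x8888888888) (.leaf 0x8888888888)) (.node 1 (.leaf 0x8888888888) (.leaf 0x8888888888))) (.node 2 (.node 1 (.leaf 0x8888888888) (.leaf 0x8888888888)) (.node 1 (.leaf 0x8888888888) (.leaf 0x8888888888)))))) (.node 16 (.node 8 (.node 4 (.node 2 (.node 1 (.leaf 0x8888888888) (.leaf 0x8888888888)) (.node 1 (.leaf 0x8888888888) (.leaf 0x8888888888))) (.node 2 (.node 1 (.leaf 0x8888888888) (.leaf 0x8888888888)) (.node 1 (.leaf 0x8888888888) (.leaf 0x8888888888)))) (.node 4 (.node 2 (.node 1 (.leaf 0x8888888888) (.leaf 0x8888888888)) (.node 1 (.leaf 0x8888888888) (.leaf 0x8888888888))) (.node 2 (.node 1 (.leaf 0x8888888888) (.leaf 0x8888888888)) (.node 1 (.leaf 0x8888888888) (.leaf 0x8888888888))))) (.node 8 (.node 4 (.node 2 (.node 1 (.leaf 0x8888888888) (.leaf 0x8888888888)) (.node 1 (.leaf 0x8888888888) (.leaf 0x8888888888)))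 (.node 2 (.node 1 (.leaf 0x8888888888) (.leaf 0x8888888888)) (.node 1 (.leaf 0x8888888888) (.leaf 0x8888888888)))) (.node 4 (.node 2 (.node 1 (.leaf 0x8888888888) (.leaf 0x8888888888)) (.node 1 (.leaf 0x8888888888) (.leaf 0x8888888888))) (.node 2 (.node 1 (.leaf 0x8888888888) (.leaf 0x8888888888)) (.node 1 (.leaf 0x8888888888) (.leaf 0x8888888888)))))))

/-- Table data. -/
def tabVB_0_18 : Tab :=
  (.node 32 (.node 16 (.node 8 (.node 4 (.node 2 (.node 1 (.leaf 0x8888888888) (.leaf 0x8888888888)) (.node 1 (.leaf 0x8888888888) (.leaf 0x8888888888))) (.node 2 (.node 1 (.leaf 0x8888888888) (.leaf 0x8888888888)) (.node 1 (.leaf 0x8888888888) (.leaf 0x8888888888)))) (.node 4 (.node 2 (.node 1 (.leaf 0x8888888888) (.leaf 0x8888888888)) (.node 1 (.leaf 0x8888888888) (.leaf 0x8888888888))) (.node 2 (.node 1 (.leaf 0x8888888888) (.leaf 0x8888888888)) (.node 1 (.leaf 0x8888888888) (.leaf 0x8888888888))))) (.node 8 (.node 4 (.node 2 (.node 1 (.leaf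 0x8888888888) (.leaf 0x8888888888)) (.node 1 (.leaf 0x8888888888) (.leaf 0x8888888888))) (.node 2 (.node 1 (.leaf 0x8888888888) (.leaf 0x8888888888)) (.node 1 (.leaf 0x8888888888) (.leaf 0x8888888888)))) (.node 4 (.node 2 (.node 1 (.leaf 0x8888888888) (.leaf 0x8888888888)) (.node 1 (.leaf 0x8888888888) (.leaf 0x8888888888))) (.node 2 (.node 1 (.leaf 0x8888888888) (.leaf 0x8888888888)) (.node 1 (.leaf 0x8888888888) (.leaf 0x8888888888)))))) (.node 16 (.node 8 (.node 4 (.node 2 (.node 1 (.leaf 0x8888888888) (.leaf 0x8888888888)) (.node 1 (.leaf 0x8888888888) (.leaf 0x8888888888))) (.node 2 (.node 1 (.leaf 0x8888888888) (.leaf 0x8888888888)) (.node 1 (.leaf 0x8888888888) (.leaf 0x8888888888)))) (.node 4 (.node 2 (.node 1 (.leaf 0x8888888888) (.leaf 0x8888888888)) (.node 1 (.leaf 0x8888888888) (.leaf 0x8888888888))) (.node 2 (.node 1 (.leaf 0x8888888888) (.leaf 0x8888888888)) (.node 1 (.leaf 0x8888888888) (.leaf 0x8888888888))))) (.node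 8 (.node 4 (.node 2 (.node 1 (.leaf 0x8888888888) (.leaf 0x8888888888)) (.node 1 (.leaf 0x8888888888) (.leaf 0x8888888888))) (.node 2 (.node 1 (.leaf 0x8888888888) (.leaf 0x8888888888)) (.node 1 (.leaf 0x8888888888) (.leaf 0x8888888888)))) (.node 4 (.node 2 (.node 1 (.leaf 0x8888888888) (.leaf 0x8888888888)) (.node 1 (.leaf 0x8888888888) (.leaf 0x8888888888))) (.node 2 (.node 1 (.leaf 0x8888888888) (.leaf 0x8888888888)) (.node 1 (.leaf 0x8888888888) (.leaf 0x8888888888)))))))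

/-- Table data. -/
def tabVB_0_19 : Tab :=
  (.node 32 (.node 16 (.node 8 (.node 4 (.node 2 (.node 1 (.leaf 0x8888888888) (.leaf 0x8888888888)) (.node 1 (.leaf 0x8888888888) (.leaf 0x8888888888))) (.node 2 (.node 1 (.leaf 0x8888888888) (.leaf 0x8888888888)) (.node 1 (.leaf 0x8888888888) (.leaf 0x8888888888)))) (.node 4 (.node 2 (.node 1 (.leaf 0x8888888888) (.leaf 0x8888888888)) (.node 1 (.leaf 0x8888888888) (.leaf 0x8888888888))) (.node 2 (.node 1 (.leaf 0x8888888888) (.leaf 0x8888888888)) (.node 1 (.leaf 0x8888888888) (.leaf 0x8888888888))))) (.node 8 (.node 4 (.node 2 (.node 1 (.leaf 0x8888888888) (.leaf 0x8888888888)) (.node 1 (.leaf 0x8888888888) (.leaf 0x8888888888))) (.node 2 (.node 1 (.leaf 0x8888888888) (.leaf 0x8888888888)) (.node 1 (.leaf 0x8888888888) (.leaf 0x8888888888)))) (.node 4 (.node 2 (.node 1 (.leaf 0x8888888888) (.leaf 0x8888888888)) (.node 1 (.leaf 0x8888888888) (.leaf 0x8888888888))) (.node 2 (.node 1 (.leaf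 0x8888888888) (.leaf 0x8888888888)) (.node 1 (.leaf 0x8888888888) (.leaf 0x8888888888)))))) (.node 16 (.node 8 (.node 4 (.node 2 (.node 1 (.leaf 0x8888888888) (.leaf 0x8888888888)) (.node 1 (.leaf 0x8888888888) (.leaf 0x8888888888))) (.node 2 (.node 1 (.leaf 0x8888888888) (.leaf 0x8888888888)) (.node 1 (.leaf 0x8888888888) (.leaf 0x8888888888)))) (.node 4 (.node 2 (.node 1 (.leaf 0x8888888888) (.leaf 0x8888888888)) (.node 1 (.leaf 0x8888888888) (.leaf 0x8888888888))) (.node 2 (.node 1 (.leaf 0x8888888888) (.leaf 0x8888888888)) (.node 1 (.leaf 0x8888888888) (.leaf 0x8888888888))))) (.node 8 (.node 4 (.node 2 (.node 1 (.leaf 0x8888888888) (.leaf 0x8888888888)) (.node 1 (.leaf 0x8888888888) (.leaf 0x8888888888))) (.node 2 (.node 1 (.leaf 0x8888888888) (.leaf 0x8888888888)) (.node 1 (.leaf 0x8888888888) (.leaf 0x8888888888)))) (.node 4 (.node 2 (.node 1 (.leaf 0x8888888888) (.leaf 0x8888888888)) (.node 1 (.leaf 0x8888888888) (.leaf 0x8888888888)))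 (.node 2 (.node 1 (.leaf 0x8888888888) (.leaf 0x8888888888)) (.node 1 (.leaf 0x8888888888) (.leaf 0x8888888888)))))))

/-- Table data. -/
def tabVB_0_20 : Tab :=
  (.node 32 (.node 16 (.node 8 (.node 4 (.node 2 (.node 1 (.leaf 0x8888888888) (.leaf 0x8888888888)) (.node 1 (.leaf 0x8888888888) (.leaf 0x8888888888))) (.node 2 (.node 1 (.leaf 0x8888888888) (.leaf 0x8888888888)) (.node 1 (.leaf 0x8888888888) (.leaf 0x8888888888)))) (.node 4 (.node 2 (.node 1 (.leaf 0x8888888888) (.leaf 0x8888888888)) (.node 1 (.leaf 0x8888888888) (.leaf 0x8888888888))) (.node 2 (.node 1 (.leaf 0x8888888888) (.leaf 0x8888888888)) (.node 1 (.leaf 0x8888888888) (.leaf 0x8888888888))))) (.node 8 (.node 4 (.node 2 (.node 1 (.leaf 0x8888888888) (.leaf 0x8888888888)) (.node 1 (.leaf 0x8888888888) (.leaf 0x8888888888))) (.node 2 (.node 1 (.leaf 0x8888888888) (.leaf 0x8888888888)) (.node 1 (.leaf 0x8888888888) (.leaf 0x8888888888)))) (.node 4 (.node 2 (.node 1 (.leaf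 0x8888888888) (.leaf 0x8888888888)) (.node 1 (.leaf 0x8888888888) (.leaf 0x8888888888))) (.node 2 (.node 1 (.leaf 0x8888888888) (.leaf 0x8888888888)) (.node 1 (.leaf 0x8888888888) (.leaf 0x8888888888)))))) (.node 16 (.node 8 (.node 4 (.node 2 (.node 1 (.leaf 0x8888888888) (.leaf 0x8888888888)) (.node 1 (.leaf 0x8888888888) (.leaf 0x8888888888))) (.node 2 (.node 1 (.leaf 0x8888888888) (.leaf 0x8888888888)) (.node 1 (.leaf 0x8888888888) (.leaf 0x8888888888)))) (.node 4 (.node 2 (.node 1 (.leaf 0x8888888888) (.leaf 0x8888888888)) (.node 1 (.leaf 0x8888888888) (.leaf 0x8888888888))) (.node 2 (.node 1 (.leaf 0x8888888888) (.leaf 0x8888888888)) (.node 1 (.leaf 0x8888888888) (.leaf 0x8888888888))))) (.node 8 (.node 4 (.node 2 (.node 1 (.leaf 0x8888888888) (.leaf 0x8888888888)) (.node 1 (.leaf 0x8888888888) (.leaf 0x8888888888))) (.node 2 (.node 1 (.leaf 0x8888888888) (.leaf 0x8888888888)) (.node 1 (.leaf 0x8888888888) (.leaf 0x8888888888))))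 (.node 4 (.node 2 (.node 1 (.leaf 0x8888888888) (.leaf 0x8888888888)) (.node 1 (.leaf 0x8888888888) (.leaf 0x8888888888))) (.node 2 (.node 1 (.leaf 0x8888888888) (.leaf 0x8888888888)) (.node 1 (.leaf 0x8888888888) (.leaf 0x8888888888)))))))

/-- Table data. -/
def tabVB_0_21 : Tab :=
  (.node 32 (.node 16 (.node 8 (.node 4 (.node 2 (.node 1 (.leaf 0x8888888888) (.leaf 0x8888888888)) (.node 1 (.leaf 0x8888888888) (.leaf 0x8888888888))) (.node 2 (.node 1 (.leaf 0x8888888888) (.leaf 0x8888888888)) (.node 1 (.leaf 0x8888888888) (.leaf 0x8888888888)))) (.node 4 (.node 2 (.node 1 (.leaf 0x8888888888) (.leaf 0x8888888888)) (.node 1 (.leaf 0x8888888888) (.leaf 0x8888888888))) (.node 2 (.node 1 (.leaf 0x8888888888) (.leaf 0x8888888888)) (.node 1 (.leaf 0x8888888888) (.leaf 0x8888888888))))) (.node 8 (.node 4 (.node 2 (.node 1 (.leaf 0x8888888888) (.leaf 0x8888888888)) (.node 1 (.leaf 0x8888888888) (.leaf 0x8888888888))) (.node 2 (.node 1 (.leaf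 0x8888888888) (.leaf 0x8888888888)) (.node 1 (.leaf 0x8888888888) (.leaf 0x8888888888)))) (.node 4 (.node 2 (.node 1 (.leaf 0x8888888888) (.leaf 0x8888888888)) (.node 1 (.leaf 0x8888888888) (.leaf 0x8888888888))) (.node 2 (.node 1 (.leaf 0x8888888888) (.leaf 0x8888888888)) (.node 1 (.leaf 0x8888888888) (.leaf 0x8888888888)))))) (.node 16 (.node 8 (.node 4 (.node 2 (.node 1 (.leaf 0x8888888888) (.leaf 0x8888888888)) (.node 1 (.leaf 0x8888888888) (.leaf 0x8888888888))) (.node 2 (.node 1 (.leaf 0x8888888888) (.leaf 0x8888888888)) (.node 1 (.leaf 0x8888888888) (.leaf 0x8888888888)))) (.node 4 (.node 2 (.node 1 (.leaf 0x8888888888) (.leaf 0x8888888888)) (.node 1 (.leaf 0x8888888888) (.leaf 0x8888888888))) (.node 2 (.node 1 (.leaf 0x8888888888) (.leaf 0x8888888888)) (.node 1 (.leaf 0x8888888888) (.leaf 0x8888888888))))) (.node 8 (.node 4 (.node 2 (.node 1 (.leaf 0x8888888888) (.leaf 0x8888888888)) (.node 1 (.leaf 0x8888888888) (.leaf 0x8888888888)))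 (.node 2 (.node 1 (.leaf 0x8888888888) (.leaf 0x8888888888)) (.node 1 (.leaf 0x8888888888) (.leaf 0x8888888888)))) (.node 4 (.node 2 (.node 1 (.leaf 0x8888888888) (.leaf 0x8888888888)) (.node 1 (.leaf 0x8888888888) (.leaf 0x8888888888))) (.node 2 (.node 1 (.leaf 0x8888888888) (.leaf 0x8888888888)) (.node 1 (.leaf 0x8888888888) (.leaf 0x8888888888)))))))

/-- Table data. -/
def tabVB_0_22 : Tab :=
  (.node 32 (.node 16 (.node 8 (.node 4 (.node 2 (.node 1 (.leaf 0x8888888888) (.leaf 0x8888888888)) (.node 1 (.leaf 0x8888888888) (.leaf 0x8888888888))) (.node 2 (.node 1 (.leaf 0x8888888888) (.leaf 0x8888888888)) (.node 1 (.leaf 0x8888888888) (.leaf 0x8888888888)))) (.node 4 (.node 2 (.node 1 (.leaf 0x8888888888) (.leaf 0x8888888888)) (.node 1 (.leaf 0x8888888888) (.leaf 0x8888888888))) (.node 2 (.node 1 (.leaf 0x8888888888) (.leaf 0x8888888888)) (.node 1 (.leaf 0x8888888888) (.leaf 0x8888888888))))) (.node 8 (.node 4 (.node 2 (.node 1 (.leaf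 0x8888888888) (.leaf 0x8888888888)) (.node 1 (.leaf 0x8888888888) (.leaf 0x8888888888))) (.node 2 (.node 1 (.leaf 0x8888888888) (.leaf 0x8888888888)) (.node 1 (.leaf 0x8888888888) (.leaf 0x8888888888)))) (.node 4 (.node 2 (.node 1 (.leaf 0x8888888888) (.leaf 0x8888888888)) (.node 1 (.leaf 0x8888888888) (.leaf 0x8888888888))) (.node 2 (.node 1 (.leaf 0x8888888888) (.leaf 0x8888888888)) (.node 1 (.leaf 0x8888888888) (.leaf 0x8888888888)))))) (.node 16 (.node 8 (.node 4 (.node 2 (.node 1 (.leaf 0x8888888888) (.leaf 0x8888888888)) (.node 1 (.leaf 0x8888888888) (.leaf 0x8888888888))) (.node 2 (.node 1 (.leaf 0x8888888888) (.leaf 0x8888888888)) (.node 1 (.leaf 0x8888888888) (.leaf 0x8888888888)))) (.node 4 (.node 2 (.node 1 (.leaf 0x8888888888) (.leaf 0x8888888888)) (.node 1 (.leaf 0x8888888888) (.leaf 0x8888888888))) (.node 2 (.node 1 (.leaf 0x8888888888) (.leaf 0x8888888888)) (.node 1 (.leaf 0x8888888888) (.leaf 0x8888888888))))) (.node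 8 (.node 4 (.node 2 (.node 1 (.leaf 0x8888888888) (.leaf 0x8888888888)) (.node 1 (.leaf 0x8888888888) (.leaf 0x8888888888))) (.node 2 (.node 1 (.leaf 0x8888888888) (.leaf 0x8888888888)) (.node 1 (.leaf 0x8888888888) (.leaf 0x8888888888)))) (.node 4 (.node 2 (.node 1 (.leaf 0x8888888888) (.leaf 0x8888888888)) (.node 1 (.leaf 0x8888888888) (.leaf 0x8888888888))) (.node 2 (.node 1 (.leaf 0x8888888888) (.leaf 0x8888888888)) (.node 1 (.leaf 0x8888888888) (.leaf 0x8888888888)))))))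

/-- Table data. -/
def tabVB_0_23 : Tab :=
  (.node 32 (.node 16 (.node 8 (.node 4 (.node 2 (.node 1 (.leaf 0x8888888888) (.leaf 0x8888888888)) (.node 1 (.leaf 0x8888888888) (.leaf 0x8888888888))) (.node 2 (.node 1 (.leaf 0x8888888888) (.leaf 0x8888888888)) (.node 1 (.leaf 0x8888888888) (.leaf 0x8888888888)))) (.node 4 (.node 2 (.node 1 (.leaf 0x8888888888) (.leaf 0x8888888888)) (.node 1 (.leaf 0x8888888888) (.leaf 0x8888888888))) (.node 2 (.node 1 (.leaf 0x8888888888) (.leaf 0x8888888888)) (.node 1 (.leaf 0x8888888888) (.leaf 0x8888888888))))) (.node 8 (.node 4 (.node 2 (.node 1 (.leaf 0x8888888888) (.leaf 0x8888888888)) (.node 1 (.leaf 0x8888888888) (.leaf 0x8888888888))) (.node 2 (.node 1 (.leaf 0x8888888888) (.leaf 0x8888888888)) (.node 1 (.leaf 0x8888888888) (.leaf 0x8888888888)))) (.node 4 (.node 2 (.node 1 (.leaf 0x8888888888) (.leaf 0x8888888888)) (.node 1 (.leaf 0x8888888888) (.leaf 0x8888888888))) (.node 2 (.node 1 (.leaf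 0x8888888888) (.leaf 0x8888888888)) (.node 1 (.leaf 0x8888888888) (.leaf 0x8888888888)))))) (.node 16 (.node 8 (.node 4 (.node 2 (.node 1 (.leaf 0x8888888888) (.leaf 0x8888888888)) (.node 1 (.leaf 0x8888888888) (.leaf 0x8888888888))) (.node 2 (.node 1 (.leaf 0x8888888888) (.leaf 0x8888888888)) (.node 1 (.leaf 0x8888888888) (.leaf 0x8888888888)))) (.node 4 (.node 2 (.node 1 (.leaf 0x8888888888) (.leaf 0x8888888888)) (.node 1 (.leaf 0x8888888888) (.leaf 0x8888888888))) (.node 2 (.node 1 (.leaf 0x8888888888) (.leaf 0x8888888888)) (.node 1 (.leaf 0x8888888888) (.leaf 0x8888888888))))) (.node 8 (.node 4 (.node 2 (.node 1 (.leaf 0x8888888888) (.leaf 0x8888888888)) (.node 1 (.leaf 0x8888888888) (.leaf 0x8888888888))) (.node 2 (.node 1 (.leaf 0x8888888888) (.leaf 0x8888888888)) (.node 1 (.leaf 0x8888888888) (.leaf 0x8888888888)))) (.node 4 (.node 2 (.node 1 (.leaf 0x8888888888) (.leaf 0x8888888888)) (.node 1 (.leaf 0x8888888888) (.leaf 0x8888888888)))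 (.node 2 (.node 1 (.leaf 0x8888888888) (.leaf 0x8888888888)) (.node 1 (.leaf 0x8888888888) (.leaf 0x8888888888)))))))

/-- Table data. -/
def tabVB_0_24 : Tab :=
  (.node 32 (.node 16 (.node 8 (.node 4 (.node 2 (.node 1 (.leaf 0x8888888888) (.leaf 0x8888888888)) (.node 1 (.leaf 0x8888888888) (.leaf 0x8888888888))) (.node 2 (.node 1 (.leaf 0x8888888888) (.leaf 0x8888888888)) (.node 1 (.leaf 0x8888888888) (.leaf 0x8888888888)))) (.node 4 (.node 2 (.node 1 (.leaf 0x8888888888) (.leaf 0x8888888888)) (.node 1 (.leaf 0x8888888888) (.leaf 0x8888888888))) (.node 2 (.node 1 (.leaf 0x8888888888) (.leaf 0x8888888888)) (.node 1 (.leaf 0x8888888888) (.leaf 0x8888888888))))) (.node 8 (.node 4 (.node 2 (.node 1 (.leaf 0x8888888888) (.leaf 0x8888888888)) (.node 1 (.leaf 0x8888888888) (.leaf 0x8888888888))) (.node 2 (.node 1 (.leaf 0x8888888888) (.leaf 0x8888888888)) (.node 1 (.leaf 0x8888888888) (.leaf 0x8888888888)))) (.node 4 (.node 2 (.node 1 (.leaf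 0x8888888888) (.leaf 0x8888888888)) (.node 1 (.leaf 0x8888888888) (.leaf 0x8888888888))) (.node 2 (.node 1 (.leaf 0x8888888888) (.leaf 0x8888888888)) (.node 1 (.leaf 0x8888888888) (.leaf 0x8888888888)))))) (.node 16 (.node 8 (.node 4 (.node 2 (.node 1 (.leaf 0x8888888888) (.leaf 0x8888888888)) (.node 1 (.leaf 0x8888888888) (.leaf 0x8888888888))) (.node 2 (.node 1 (.leaf 0x8888888888) (.leaf 0x8888888888)) (.node 1 (.leaf 0x8888888888) (.leaf 0x8888888888)))) (.node 4 (.node 2 (.node 1 (.leaf 0x8888888888) (.leaf 0x8888888888)) (.node 1 (.leaf 0x8888888888) (.leaf 0x8888888888))) (.node 2 (.node 1 (.leaf 0x8888888888) (.leaf 0x8888888888)) (.node 1 (.leaf 0x8888888888) (.leaf 0x8888888888))))) (.node 8 (.node 4 (.node 2 (.node 1 (.leaf 0x8888888888) (.leaf 0x8888888888)) (.node 1 (.leaf 0x8888888888) (.leaf 0x8888888888))) (.node 2 (.node 1 (.leaf 0x8888888888) (.leaf 0x8888888888)) (.node 1 (.leaf 0x8888888888) (.leaf 0x8888888888))))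 (.node 4 (.node 2 (.node 1 (.leaf 0x8888888888) (.leaf 0x8888888888)) (.node 1 (.leaf 0x8888888888) (.leaf 0x8888888888))) (.node 2 (.node 1 (.leaf 0x8888888888) (.leaf 0x8888888888)) (.node 1 (.leaf 0x8888888888) (.leaf 0x8888888888)))))))

/-- Table data. -/
def tabVB_0_25 : Tab :=
  (.node 32 (.node 16 (.node 8 (.node 4 (.node 2 (.node 1 (.leaf 0x8888888888) (.leaf 0x8888888888)) (.node 1 (.leaf 0x8888888888) (.leaf 0x8888888888))) (.node 2 (.node 1 (.leaf 0x8888888888) (.leaf 0x8888888888)) (.node 1 (.leaf 0x8888888888) (.leaf 0x8888888888)))) (.node 4 (.node 2 (.node 1 (.leaf 0x8888888888) (.leaf 0x8888888888)) (.node 1 (.leaf 0x8888888888) (.leaf 0x8888888888))) (.node 2 (.node 1 (.leaf 0x8888888888) (.leaf 0x8888888888)) (.node 1 (.leaf 0x8888888888) (.leaf 0x8888888888))))) (.node 8 (.node 4 (.node 2 (.node 1 (.leaf 0x8888888888) (.leaf 0x8888888888)) (.node 1 (.leaf 0x8888888888) (.leaf 0x8888888888))) (.node 2 (.node 1 (.leaf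 0x8888888888) (.leaf 0x8888888888)) (.node 1 (.leaf 0x8888888888) (.leaf 0x8888888888)))) (.node 4 (.node 2 (.node 1 (.leaf 0x8888888888) (.leaf 0x8888888888)) (.node 1 (.leaf 0x8888888888) (.leaf 0x8888888888))) (.node 2 (.node 1 (.leaf 0x8888888888) (.leaf 0x8888888888)) (.node 1 (.leaf 0x8888888888) (.leaf 0x8888888888)))))) (.node 16 (.node 8 (.node 4 (.node 2 (.node 1 (.leaf 0x8888888888) (.leaf 0x8888888888)) (.node 1 (.leaf 0x8888888888) (.leaf 0x8888888888))) (.node 2 (.node 1 (.leaf 0x8888888888) (.leaf 0x8888888888)) (.node 1 (.leaf 0x8888888888) (.leaf 0x8888888888)))) (.node 4 (.node 2 (.node 1 (.leaf 0x8888888888) (.leaf 0x8888888888)) (.node 1 (.leaf 0x8888888888) (.leaf 0x8888888888))) (.node 2 (.node 1 (.leaf 0x8888888888) (.leaf 0x8888888888)) (.node 1 (.leaf 0x8888888888) (.leaf 0x8888888888))))) (.node 8 (.node 4 (.node 2 (.node 1 (.leaf 0x8888888888) (.leaf 0x8888888888)) (.node 1 (.leaf 0x8888888888) (.leaf 0x8888888888)))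 (.node 2 (.node 1 (.leaf 0x8888888888) (.leaf 0x8888888888)) (.node 1 (.leaf 0x8888888888) (.leaf 0x8888888888)))) (.node 4 (.node 2 (.node 1 (.leaf 0x8888888888) (.leaf 0x8888888888)) (.node 1 (.leaf 0x8888888888) (.leaf 0x8888888888))) (.node 2 (.node 1 (.leaf 0x8888888888) (.leaf 0x8888888888)) (.node 1 (.leaf 0x8888888888) (.leaf 0x8888888888)))))))

/-- Table data. -/
def tabVB_0_26 : Tab :=
  (.node 32 (.node 16 (.node 8 (.node 4 (.node 2 (.node 1 (.leaf 0x8888888888) (.leaf 0x8888888888)) (.node 1 (.leaf 0x8888888888) (.leaf 0x8888888888))) (.node 2 (.node 1 (.leaf 0x8888888888) (.leaf 0x8888888888)) (.node 1 (.leaf 0x8888888888) (.leaf 0x8888888888)))) (.node 4 (.node 2 (.node 1 (.leaf 0x8888888888) (.leaf 0x8888888888)) (.node 1 (.leaf 0x8888888888) (.leaf 0x8888888888))) (.node 2 (.node 1 (.leaf 0x8888888888) (.leaf 0x8888888888)) (.node 1 (.leaf 0x8888888888) (.leaf 0x8888888888))))) (.node 8 (.node 4 (.node 2 (.node 1 (.leaf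 0x8888888888) (.leaf 0x8888888888)) (.node 1 (.leaf 0x8888888888) (.leaf 0x8888888888))) (.node 2 (.node 1 (.leaf 0x8888888888) (.leaf 0x8888888888)) (.node 1 (.leaf 0x8888888888) (.leaf 0x8888888888)))) (.node 4 (.node 2 (.node 1 (.leaf 0x8888888888) (.leaf 0x8888888888)) (.node 1 (.leaf 0x8888888888) (.leaf 0x8888888888))) (.node 2 (.node 1 (.leaf 0x8888888888) (.leaf 0x8888888888)) (.node 1 (.leaf 0x8888888888) (.leaf 0x8888888888)))))) (.node 16 (.node 8 (.node 4 (.node 2 (.node 1 (.leaf 0x8888888888) (.leaf 0x8888888888)) (.node 1 (.leaf 0x8888888888) (.leaf 0x8888888888))) (.node 2 (.node 1 (.leaf 0x8888888888) (.leaf 0x8888888888)) (.node 1 (.leaf 0x8888888888) (.leaf 0x8888888888)))) (.node 4 (.node 2 (.node 1 (.leaf 0x8888888888) (.leaf 0x8888888888)) (.node 1 (.leaf 0x8888888888) (.leaf 0x8888888888))) (.node 2 (.node 1 (.leaf 0x8888888888) (.leaf 0x8888888888)) (.node 1 (.leaf 0x8888888888) (.leaf 0x8888888888))))) (.node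 8 (.node 4 (.node 2 (.node 1 (.leaf 0x8888888888) (.leaf 0x8888888888)) (.node 1 (.leaf 0x8888888888) (.leaf 0x8888888888))) (.node 2 (.node 1 (.leaf 0x8888888889) (.leaf 0x8888888988)) (.node 1 (.leaf 0x8888889888) (.leaf 0x8888989888)))) (.node 4 (.node 2 (.node 1 (.leaf 0x8888888898) (.leaf 0x8888898888)) (.node 1 (.leaf 0x8889887888) (.leaf 0x8888888899))) (.node 2 (.node 1 (.leaf 0x8898888888) (.leaf 0x8898889888)) (.node 1 (.leaf 0x8988887888) (.leaf 0x9788888888)))))))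

/-- Table data. -/
def tabVB_0_27 : Tab :=
  (.node 32 (.node 16 (.node 8 (.node 4 (.node 2 (.node 1 (.leaf 0x8888888988) (.leaf 0x8888988888)) (.node 1 (.leaf 0x8878888898) (.leaf 0x8988888887))) (.node 2 (.node 1 (.leaf 0x8888889887) (.leaf 0x8889889888)) (.node 1 (.leaf 0x888988a888) (.leaf 0x8879889899)))) (.node 4 (.node 2 (.node 1 (.leaf 0x888788a8a8) (.leaf 0x8988889888)) (.node 1 (.leaf 0x8888878889) (.leaf 0x8888798888))) (.node 2 (.node 1 (.leaf 0x8888787898) (.leaf 0x8889888878)) (.node 1 (.leaf 0x8898878888) (.leaf 0x8988787888))))) (.node 8 (.node 4 (.node 2 (.node 1 (.leaf 0x9788888888) (.leaf 0x8888889888)) (.node 1 (.leaf 0x8889888889) (.leaf 0x88a8888888))) (.node 2 (.node 1 (.leaf 0x88a8889888) (.leaf 0x8888888889)) (.node 1 (.leaf 0x8788888989) (.leaf 0x8889888888)))) (.node 4 (.node 2 (.node 1 (.leaf 0x8888889897) (.leaf 0x888a888889)) (.node 1 (.leaf 0x8898888888) (.leaf 0x8988888788))) (.node 2 (.node 1 (.leaf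 0x9888888788) (.leaf 0x8888888898)) (.node 1 (.leaf 0x8888888889) (.leaf 0x8889888887)))))) (.node 16 (.node 8 (.node 4 (.node 2 (.node 1 (.leaf 0x888988988a) (.leaf 0x8898888878)) (.node 1 (.leaf 0x8788889988) (.leaf 0x8988889988))) (.node 2 (.node 1 (.leaf 0x8988887889) (.leaf 0x8888889888)) (.node 1 (.leaf 0x8888988898) (.leaf 0x7989988888)))) (.node 4 (.node 2 (.node 1 (.leaf 0x8998887888) (.leaf 0x8a88988878)) (.node 1 (.leaf 0x8988988988) (.leaf 0x8888989888))) (.node 2 (.node 1 (.leaf 0x7989788888) (.leaf 0x8889789888)) (.node 1 (.leaf 0x899878a888) (.leaf 0x8a88787888))))) (.node 8 (.node 4 (.node 2 (.node 1 (.leaf 0x8888877899) (.leaf 0x8889887898)) (.node 1 (.leaf 0x8898877898) (.leaf 0x8888898888))) (.node 2 (.node 1 (.leaf 0x8898888889) (.leaf 0x8898889889)) (.node 1 (.leaf 0x88a788988a) (.leaf 0x88a788988a)))) (.node 4 (.node 2 (.node 1 (.leaf 0x88a888a888) (.leaf 0x8879888887)) (.node 1 (.leaf 0x889988a889) (.leaf 0x889988a88a)))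 (.node 2 (.node 1 (.leaf 0x887988a88a) (.leaf 0x798888a998)) (.node 1 (.leaf 0x8888888989) (.leaf 0x8888789888)))))))

/-- Table data. -/
def tabVB_0_28 : Tab :=
  (.node 32 (.node 16 (.node 8 (.node 4 (.node 2 (.node 1 (.leaf 0x9888788898) (.leaf 0x7889888978)) (.node 1 (.leaf 0x8898888988) (.leaf 0x8988788988))) (.node 2 (.node 1 (.leaf 0x8888888a89) (.leaf 0x8888988888)) (.node 1 (.leaf 0x8878888899) (.leaf 0x8988888989)))) (.node 4 (.node 2 (.node 1 (.leaf 0x9788888888) (.leaf 0x8888888a8a)) (.node 1 (.leaf 0x8888789888) (.leaf 0x8888788a99))) (.node 2 (.node 1 (.leaf 0x8889888878) (.leaf 0x8898888a89)) (.node 1 (.leaf 0x8988788a89) (.leaf 0x9788888888))))) (.node 8 (.node 4 (.node 2 (.node 1 (.leaf 0x8888898789) (.leaf 0x8888988888)) (.node 1 (.leaf 0x8878888899) (.leaf 0x8988888a8a))) (.node 2 (.node 1 (.leaf 0x8878888899) (.leaf 0x8888888889)) (.node 1 (.leaf 0x8788887988) (.leaf 0x8889888888)))) (.node 4 (.node 2 (.node 1 (.leaf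 0x8879889898) (.leaf 0x8897887878)) (.node 1 (.leaf 0x8878889888) (.leaf 0x8897889877))) (.node 2 (.node 1 (.leaf 0x889788a87a) (.leaf 0x8889887899)) (.node 1 (.leaf 0x88798888a9) (.leaf 0x88978888a7)))))) (.node 16 (.node 8 (.node 4 (.node 2 (.node 1 (.leaf 0x7988888988) (.leaf 0x9788888988)) (.node 1 (.leaf 0x8888988988) (.leaf 0x8888988888))) (.node 2 (.node 1 (.leaf 0x8888888988) (.leaf 0x8888988888)) (.node 1 (.leaf 0x8888888889) (.leaf 0x8888889899)))) (.node 4 (.node 2 (.node 1 (.leaf 0x888888888a) (.leaf 0x8879888888)) (.node 1 (.leaf 0x9888888788) (.leaf 0x8888888988))) (.node 2 (.node 1 (.leaf 0x8888988888) (.leaf 0x8888898889)) (.node 1 (.leaf 0x8988888887) (.leaf 0x8988888987))))) (.node 8 (.node 4 (.node 2 (.node 1 (.leaf 0x9887889889) (.leaf 0x8898988888)) (.node 1 (.leaf 0x8888898888) (.leaf 0x8899887899))) (.node 2 (.node 1 (.leaf 0x88978878a8) (.leaf 0x8888888988)) (.node 1 (.leaf 0x8888988888) (.leaf 0x8989888887))))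 (.node 4 (.node 2 (.node 1 (.leaf 0x9797888888) (.leaf 0x8787888989)) (.node 1 (.leaf 0x8888898888) (.leaf 0x9888888788))) (.node 2 (.node 1 (.leaf 0x8998887887) (.leaf 0x8998887987)) (.node 1 (.leaf 0x987a8889a9) (.leaf 0x998a987aa8)))))))

/-- Table data. -/
def tabVB_0_29 : Tab :=
  (.node 32 (.node 16 (.node 8 (.node 4 (.node 2 (.node 1 (.leaf 0x998a8889a8) (.leaf 0x8888888989)) (.node 1 (.leaf 0x9888788898) (.leaf 0x7889888978))) (.node 2 (.node 1 (.leaf 0x8898888988) (.leaf 0x8988788988)) (.node 1 (.leaf 0x8888888988) (.leaf 0x8888988888)))) (.node 4 (.node 2 (.node 1 (.leaf 0x8878888798) (.leaf 0x8888889989)) (.node 1 (.leaf 0x8788989899) (.leaf 0x9889888888))) (.node 2 (.node 1 (.leaf 0x9879888799) (.leaf 0x9898888797)) (.node 1 (.leaf 0x9898889797) (.leaf 0x98988897a7))))) (.node 8 (.node 4 (.node 2 (.node 1 (.leaf 0x8888888889) (.leaf 0x8798988798)) (.node 1 (.leaf 0x8988888888) (.leaf 0x8888889889))) (.node 2 (.node 1 (.leaf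 0x8799988878) (.leaf 0x998887a989)) (.node 1 (.leaf 0x8788898988) (.leaf 0x7779898978)))) (.node 4 (.node 2 (.node 1 (.leaf 0x8789898897) (.leaf 0x877a899898)) (.node 1 (.leaf 0x899a877878) (.leaf 0x8798898987))) (.node 2 (.node 1 (.leaf 0x7989888889) (.leaf 0x88a8888888)) (.node 1 (.leaf 0x88a8889888) (.leaf 0x8878988888)))))) (.node 16 (.node 8 (.node 4 (.node 2 (.node 1 (.leaf 0x88a7787898) (.leaf 0x88a8889898)) (.node 1 (.leaf 0x8988888887) (.leaf 0x8788888989))) (.node 2 (.node 1 (.leaf 0x8997888787) (.leaf 0x9888888788)) (.node 1 (.leaf 0x8898887998) (.leaf 0x7888889988)))) (.node 4 (.node 2 (.node 1 (.leaf 0x7889888989) (.leaf 0x88a8888888)) (.node 1 (.leaf 0x88a8889888) (.leaf 0x88a8889898))) (.node 2 (.node 1 (.leaf 0x8a78a88988) (.leaf 0x9888887899)) (.node 1 (.leaf 0x9889887798) (.leaf 0x9898887898))))) (.node 8 (.node 4 (.node 2 (.node 1 (.leaf 0x8888888989) (.leaf 0x8888789888)) (.node 1 (.leaf 0x9888788898) (.leaf 0x7889888978)))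 (.node 2 (.node 1 (.leaf 0x8898888988) (.leaf 0x8878888798)) (.node 1 (.leaf 0x8888889989) (.leaf 0x8788989798)))) (.node 4 (.node 2 (.node 1 (.leaf 0x9889888888) (.leaf 0x9879888799)) (.node 1 (.leaf 0x9898888797) (.leaf 0x9898889797))) (.node 2 (.node 1 (.leaf 0x98988897a7) (.leaf 0x8888888889)) (.node 1 (.leaf 0x8889888888) (.leaf 0x8798988a97)))))))

/-- Table data. -/
def tabVB_0_30 : Tab :=
  (.node 32 (.node 16 (.node 8 (.node 4 (.node 2 (.node 1 (.leaf 0x8888889889) (.leaf 0x8989788877)) (.node 1 (.leaf 0x88898889a9) (.leaf 0x8898889887))) (.node 2 (.node 1 (.leaf 0x889888a887) (.leaf 0x8788897989)) (.node 1 (.leaf 0x7779897979) (.leaf 0x8789897898)))) (.node 4 (.node 2 (.node 1 (.leaf 0x877a898899) (.leaf 0x899a878877)) (.node 1 (.leaf 0x8798897988) (.leaf 0x8988888889))) (.node 2 (.node 1 (.leaf 0x8789888987) (.leaf 0x889789a87a)) (.node 1 (.leaf 0x888987a89a) (.leaf 0x8788988887))))) (.node 8 (.node 4 (.node 2 (.node 1 (.leaf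 0x8788898887) (.leaf 0x8998888888)) (.node 1 (.leaf 0x9887888788) (.leaf 0x8888989897))) (.node 2 (.node 1 (.leaf 0x9898988887) (.leaf 0x9898989887)) (.node 1 (.leaf 0x7988887899) (.leaf 0x8888787979)))) (.node 4 (.node 2 (.node 1 (.leaf 0x799989877a) (.leaf 0x8888888889)) (.node 1 (.leaf 0x8888889889) (.leaf 0x8988887989))) (.node 2 (.node 1 (.leaf 0x8788889897) (.leaf 0x8898898888)) (.node 1 (.leaf 0x8888878888) (.leaf 0x8788989787)))))) (.node 16 (.node 8 (.node 4 (.node 2 (.node 1 (.leaf 0x8788899787) (.leaf 0x8998888888)) (.node 1 (.leaf 0x9888888778) (.leaf 0x8888988878))) (.node 2 (.node 1 (.leaf 0x8888788898) (.leaf 0x9898989787)) (.node 1 (.leaf 0x989898a787) (.leaf 0x798888a999)))) (.node 4 (.node 2 (.node 1 (.leaf 0x88a8888898) (.leaf 0x8889888898)) (.node 1 (.leaf 0x88a98888a9) (.leaf 0x8887889878))) (.node 2 (.node 1 (.leaf 0x8998889988) (.leaf 0x899a88a988)) (.node 1 (.leaf 0x8898878889) (.leaf 0x8998888788))))) (.node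 8 (.node 4 (.node 2 (.node 1 (.leaf 0x7999788879) (.leaf 0x88a8889877)) (.node 1 (.leaf 0x9988a77989) (.leaf 0x8888899887))) (.node 2 (.node 1 (.leaf 0x8998777889) (.leaf 0x8987889979)) (.node 1 (.leaf 0x8989878978) (.leaf 0x8998888988)))) (.node 4 (.node 2 (.node 1 (.leaf 0x8798888788) (.leaf 0x8798889788)) (.node 1 (.leaf 0x889888a878) (.leaf 0x887888a898))) (.node 2 (.node 1 (.leaf 0x8788887798) (.leaf 0x8788887798)) (.node 1 (.leaf 0x8798889798) (.leaf 0x8878888889)))))))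

/-- Table data. -/
def tabVB_0_31 : Tab :=
  (.node 32 (.node 16 (.node 8 (.node 4 (.node 2 (.node 1 (.leaf 0x8878888889) (.leaf 0x8788889799)) (.node 1 (.leaf 0x887888888a) (.leaf 0x8888888889))) (.node 2 (.node 1 (.leaf 0x89a888a98a) (.leaf 0x888888a887)) (.node 1 (.leaf 0x899a78aa88) (.leaf 0x8997789979)))) (.node 4 (.node 2 (.node 1 (.leaf 0x8779987797) (.leaf 0x88888889a8)) (.node 1 (.leaf 0x8779987798) (.leaf 0x8888888889))) (.node 2 (.node 1 (.leaf 0x8889888888) (.leaf 0x8888889888)) (.node 1 (.leaf 0x888a888878) (.leaf 0x888a888898))))) (.node 8 (.node 4 (.node 2 (.node 1 (.leaf 0x888a888899) (.leaf 0x888a88989a)) (.node 1 (.leaf 0x8899888878) (.leaf 0x8998877889))) (.node 2 (.node 1 (.leaf 0x8898889888) (.leaf 0x889888a888)) (.node 1 (.leaf 0x88a7889878) (.leaf 0x87a8889787)))) (.node 4 (.node 2 (.node 1 (.leaf 0x89798778aa) (.leaf 0x8797887777)) (.node 1 (.leaf 0x88a8888877) (.leaf 0x88988888a7))) (.node 2 (.node 1 (.leaf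 0x88aa887878) (.leaf 0x888888a888)) (.node 1 (.leaf 0x879988a788) (.leaf 0x88978898a7)))))) (.node 16 (.node 8 (.node 4 (.node 2 (.node 1 (.leaf 0x88a788987a) (.leaf 0x88a8888888)) (.node 1 (.leaf 0x88a8789778) (.leaf 0x88a8987998))) (.node 2 (.node 1 (.leaf 0x8988898789) (.leaf 0x8789878a87)) (.node 1 (.leaf 0x9887888788) (.leaf 0x89aa877977)))) (.node 4 (.node 2 (.node 1 (.leaf 0x8777899899) (.leaf 0x8797898979)) (.node 1 (.leaf 0x8789897879) (.leaf 0x878989787a))) (.node 2 (.node 1 (.leaf 0x898787989a) (.leaf 0x8998879788)) (.node 1 (.leaf 0x899887a788) (.leaf 0x88a8889788))))) (.node 8 (.node 4 (.node 2 (.node 1 (.leaf 0x88a8887988) (.leaf 0x8978879888)) (.node 1 (.leaf 0x899887a798) (.leaf 0x98a8888888))) (.node 2 (.node 1 (.leaf 0x98a8888889) (.leaf 0x8879888888)) (.node 1 (.leaf 0x79978879a8) (.leaf 0x79978879a9)))) (.node 4 (.node 2 (.node 1 (.leaf 0x898888887a) (.leaf 0x8988898888)) (.node 1 (.leaf 0x8989897999) (.leaf 0x8787879777)))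 (.node 2 (.node 1 (.leaf 0x8887989777) (.leaf 0x7989888977)) (.node 1 (.leaf 0x8998887888) (.leaf 0x8898898878)))))))

/-- Table data. -/
def tabVB_0 : Tab :=
  (.node 1024 (.node 512 (.node 256 (.node 128 (.node 64 tabVB_0_0 tabVB_0_1) (.node 64 tabVB_0_2 tabVB_0_3)) (.node 128 (.node 64 tabVB_0_4 tabVB_0_5) (.node 64 tabVB_0_6 tabVB_0_7))) (.node 256 (.node 128 (.node 64 tabVB_0_8 tabVB_0_9) (.node 64 tabVB_0_10 tabVB_0_11)) (.node 128 (.node 64 tabVB_0_12 tabVB_0_13) (.node 64 tabVB_0_14 tabVB_0_15)))) (.node 512 (.node 256 (.node 128 (.node 64 tabVB_0_16 tabVB_0_17) (.node 64 tabVB_0_18 tabVB_0_19)) (.node 128 (.node 64 tabVB_0_20 tabVB_0_21) (.node 64 tabVB_0_22 tabVB_0_23))) (.node 256 (.node 128 (.node 64 tabVB_0_24 tabVB_0_25) (.node 64 tabVB_0_26 tabVB_0_27)) (.node 128 (.node 64 tabVB_0_28 tabVB_0_29) (.node 64 tabVB_0_30 tabVB_0_31)))))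

end Cfsg.Lib.CosetEnum.MclStemC
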