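import Cfsg.Agent.Lib.CosetEnum.Stem.Defs
import Cfsg.Agent.Lib.CosetEnum.MclStemC.TabFA_Data0
import Cfsg.Agent.Lib.CosetEnum.MclStemC.TabCA_Data0
import Cfsg.Agent.Lib.CosetEnum.MclStemC.TabVA_Data0
import Cfsg.Agent.Lib.CosetEnum.MclStemC.TabFB_Data0
import Cfsg.Agent.Lib.CosetEnum.MclStemC.TabCB_Data0
import Cfsg.Agent.Lib.CosetEnum.MclStemC.TabVB_Data0
import Cfsg.Agent.Lib.CosetEnum.MclStemC.TabVB_Data1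

/-! Generated certificate. -/

set_option autoImplicit false
set_option maxRecDepth 20000

namespace Cfsg.Lib.CosetEnum.MclStemC

open Stem

/-- Table. -/
def tabFA : Tab :=
  tabFA_0

/-- Table. -/
def tabCA : Tab :=
  tabCA_0

/-- Table. -/
def tabVA : Tab :=
  tabVA_0

/-- Relator words. -/
def relWordsA : List (List Nat) :=
  [[1, 2, 1, 2, 1, 2],
    [0, 2, 0, 2, 0, 2, 0, 2],
    [0, 1, 0, 2, 0, 1, 2, 1, 0, 2, 0, 1, 2, 0, 2],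
    [1, 0, 1, 0, 1, 0],
    [1, 0, 2, 0, 1, 2, 1, 0, 2, 0, 1, 2, 0, 2, 0],
    [1, 0, 1, 2, 0, 1, 2, 1, 0, 2, 0, 1, 2, 0, 2],
    [0, 1, 0, 1, 0, 1],
    [0, 1, 0, 1, 0, 1],
    [0, 2, 0, 2, 0, 2, 0, 2],
    [0, 2, 0, 2, 0, 2, 0, 2],
    [0, 3, 0, 3, 0, 3],
    [0, 3, 0, 3, 0, 3],
    [1, 2, 1, 2, 1, 2],
    [1, 2, 1, 2, 1, 2],
    [1, 3, 1, 3, 1, 3, 1, 3],
    [1, 3, 1, 3, 1, 3, 1, 3],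
    [2, 3, 2, 3, 2, 3],
    [2, 3, 2, 3, 2, 3],
    [0, 1, 2, 0, 1, 3, 1, 0, 2, 1, 0, 2, 3, 0, 3, 2],
    [0, 1, 2, 0, 1, 3, 1, 0, 2, 1, 0, 2, 3, 0, 3, 2],
    [0, 1, 2, 1, 0, 2, 3, 0, 2, 3, 1, 3, 2, 0, 3, 2],
    [0, 1, 2, 1, 0, 2, 3, 0, 2, 3, 1, 3, 2, 0, 3, 2]]

/-- Their values. -/
def relValsA : List (List Int) :=
  [[0, 0, 0, 1, 0, 0, 0, 0, 0, 0],
    [0, 1, 0, 0, 0, 0, 0, 0, 0, 0],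
    [0, 0, 0, 0, 0, 0, 1, 0, 0, 0],
    [1, 0, 0, 0, 0, 0, 0, 0, 0, 0],
    [0, 0, 0, 0, 0, 0, 1, 0, 0, 0],
    [0, 0, 0, 0, 0, 0, 0, 1, 0, 0],
    [1, 0, 0, 0, 0, 0, 0, 0, 0, 0],
    [-1, 0, 0, 0, 0, 0, 0, 0, 0, 0],
    [0, 1, 0, 0, 0, 0, 0, 0, 0, 0],
    [0, -1, 0, 0, 0, 0, 0, 0, 0, 0],
    [0, 0, 1, 0, 0, 0, 0, 0, 0, 0],
    [0, 0, -1, 0, 0, 0, 0, 0, 0, 0],
    [0, 0, 0, 1, 0, 0, 0, 0, 0, 0],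
    [0, 0, 0, -1, 0, 0, 0, 0, 0, 0],
    [0, 0, 0, 0, 1, 0, 0, 0, 0, 0],
    [0, 0, 0, 0, -1, 0, 0, 0, 0, 0],
    [0, 0, 0, 0, 0, 1, 0, 0, 0, 0],
    [0, 0, 0, 0, 0, -1, 0, 0, 0, 0],
    [0, 0, 0, 0, 0, 0, 0, 0, 1, 0],
    [0, 0, 0, 0, 0, 0, 0, 0, -1, 0],
    [0, 0, 0, 0, 0, 0, 0, 0, 0, 1],
    [0, 0, 0, 0, 0, 0, 0, 0, 0, -1]]

/-- Their sources. -/
def srcsA : List (Nat × Nat × Bool) :=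
  [(7, 0, false), (5, 0, false), (10, 0, false), (4, 1, false), (10, 1, false), (11, 14, false), (4, 0, false), (4, 1, true), (5, 0, false), (5, 1, true), (6, 0, false), (6, 1, true), (7, 0, false), (7, 1, true), (8, 0, false), (8, 1, true), (9, 0, false), (9, 1, true), (12, 0, false), (12, 5, true), (13, 0, false), (13, 11, true)]

/-- Closed paths. -/
def pathsA : List (List Nat × List Int) :=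
  [([4, 8, 15, 19, 15, 14, 13, 12, 11, 10, 9, 8, 1, 0, 17, 6, 7, 18], [0, 1, 0, 0, 0, 0, -2, 0, 0, 0]),
    ([5, 8, 15, 19, 15, 20, 14, 13, 12, 11, 10, 9, 8, 1, 0, 17, 6, 7], [1, 1, 0, 0, 0, 0, -1, -1, 0, 0])]

/-- The certificate. -/
def certA : VCert :=
  ⟨relWordsA, relValsA, [[0]], tabFA, tabCA, tabVA, 16, 5, 10, 256, 0, pathsA⟩

/-- Table. -/
def tabFB : Tab :=
  tabFB_0

/-- Table. -/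
def tabCB : Tab :=
  tabCB_0

/-- Table. -/
def tabVB : Tab :=
  (.node 2048 tabVB_0 tabVB_1)

/-- Relator words. -/
def relWordsB : List (List Nat) :=
  [[0, 0],
    [1, 1],
    [2, 2],
    [3, 3],
    [0, 1, 0, 1, 0, 1],
    [0, 3, 0, 3, 0, 3],
    [1, 2, 1, 2, 1, 2],
    [2, 3, 2, 3, 2, 3],
    [0, 2, 0, 2, 0, 2, 0, 2],
    [1, 3, 1, 3, 1, 3, 1, 3],
    [0, 1, 0, 2, 0, 1, 2, 1, 0, 2, 0, 1, 2, 0, 2],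
    [0, 1, 2, 0, 1, 2, 1, 0, 2, 0, 1, 2, 0, 2, 1],
    [0, 1, 2, 0, 1, 3, 1, 0, 2, 1, 0, 2, 3, 0, 3, 2],
    [0, 1, 2, 1, 0, 2, 3, 0, 2, 3, 1, 3, 2, 0, 3, 2],
    [1, 0, 1, 0, 1, 0],
    [3, 0, 3, 0, 3, 0],
    [2, 1, 2, 1, 2, 1],
    [3, 2, 3, 2, 3, 2],
    [2, 0, 2, 0, 2, 0, 2, 0],
    [3, 1, 3, 1, 3, 1, 3, 1],
    [1, 0, 2, 0, 1, 2, 1, 0, 2, 0, 1, 2, 0, 2, 0],
    [0, 2, 0, 1, 2, 1, 0, 2, 0, 1, 2, 0, 2, 0, 1],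
    [2, 0, 1, 2, 0, 2, 0, 1, 0, 2, 0, 1, 2, 1, 0],
    [0, 1, 2, 0, 2, 0, 1, 0, 2, 0, 1, 2, 1, 0, 2],
    [1, 2, 0, 2, 0, 1, 0, 2, 0, 1, 2, 1, 0, 2, 0],
    [0, 2, 0, 1, 0, 2, 0, 1, 2, 1, 0, 2, 0, 1, 2],
    [2, 0, 1, 0, 2, 0, 1, 2, 1, 0, 2, 0, 1, 2, 0],
    [1, 0, 2, 0, 1, 2, 1, 0, 2, 0, 1, 0, 2, 0, 2],
    [1, 2, 1, 0, 2, 0, 1, 0, 2, 0, 2, 1, 0, 2, 0],
    [1, 0, 2, 0, 2, 1, 0, 2, 0, 1, 2, 1, 0, 2, 0],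
    [1, 2, 0, 1, 2, 1, 0, 2, 0, 1, 2, 0, 2, 1, 0],
    [2, 0, 1, 2, 1, 0, 2, 0, 1, 2, 0, 2, 1, 0, 1],
    [0, 1, 2, 1, 0, 2, 0, 1, 2, 0, 2, 1, 0, 1, 2],
    [1, 2, 1, 0, 2, 0, 1, 2, 0, 2, 1, 0, 1, 2, 0],
    [1, 2, 0, 2, 1, 0, 1, 2, 0, 1, 2, 1, 0, 2, 0],
    [2, 0, 2, 1, 0, 1, 2, 0, 1, 2, 1, 0, 2, 0, 1],
    [0, 2, 1, 0, 1, 2, 0, 1, 2, 1, 0, 2, 0, 1, 2],
    [2, 1, 0, 1, 2, 0, 1, 2, 1, 0, 2, 0, 1, 2, 0],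
    [1, 0, 1, 2, 0, 1, 2, 1, 0, 2, 0, 1, 2, 0, 2],
    [1, 2, 0, 2, 1, 0, 2, 0, 1, 2, 1, 0, 2, 1, 0],
    [2, 0, 2, 1, 0, 2, 0, 1, 2, 1, 0, 2, 1, 0, 1],
    [1, 0, 2, 0, 1, 2, 1, 0, 2, 1, 0, 1, 2, 0, 2],
    [2, 1, 0, 2, 1, 0, 1, 2, 0, 2, 1, 0, 2, 0, 1],
    [1, 0, 2, 1, 0, 1, 2, 0, 2, 1, 0, 2, 0, 1, 2],
    [0, 2, 1, 0, 1, 2, 0, 2, 1, 0, 2, 0, 1, 2, 1],
    [2, 1, 0, 1, 2, 0, 2, 1, 0, 2, 0, 1, 2, 1, 0],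
    [2, 0, 1, 3, 1, 0, 2, 1, 0, 2, 3, 0, 3, 2, 0, 1],
    [0, 1, 3, 1, 0, 2, 1, 0, 2, 3, 0, 3, 2, 0, 1, 2],
    [3, 0, 3, 2, 0, 1, 2, 0, 1, 3, 1, 0, 2, 1, 0, 2],
    [0, 3, 2, 0, 1, 2, 0, 1, 3, 1, 0, 2, 1, 0, 2, 3],
    [0, 2, 3, 1, 3, 2, 0, 3, 2, 0, 1, 2, 1, 0, 2, 3],
    [0, 3, 2, 0, 1, 2, 1, 0, 2, 3, 0, 2, 3, 1, 3, 2],
    [3, 2, 0, 1, 2, 1, 0, 2, 3, 0, 2, 3, 1, 3, 2, 0],
    [2, 0, 1, 2, 1, 0, 2, 3, 0, 2, 3, 1, 3, 2, 0, 3],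
    [0, 1, 0, 1, 0, 1],
    [0, 1, 0, 1, 0, 1],
    [0, 2, 0, 2, 0, 2, 0, 2],
    [0, 2, 0, 2, 0, 2, 0, 2],
    [0, 3, 0, 3, 0, 3],
    [0, 3, 0, 3, 0, 3],
    [1, 2, 1, 2, 1, 2],
    [1, 2, 1, 2, 1, 2],
    [1, 3, 1, 3, 1, 3, 1, 3],
    [1, 3, 1, 3, 1, 3, 1, 3],
    [2, 3, 2, 3, 2, 3],
    [2, 3, 2, 3, 2, 3],
    [0, 1, 2, 0, 1, 3, 1, 0, 2, 1, 0, 2, 3, 0, 3, 2],
    [0, 1, 2, 0, 1, 3, 1, 0, 2, 1, 0, 2, 3, 0, 3, 2],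
    [0, 1, 2, 1, 0, 2, 3, 0, 2, 3, 1, 3, 2, 0, 3, 2],
    [0, 1, 2, 1, 0, 2, 3, 0, 2, 3, 1, 3, 2, 0, 3, 2]]

/-- Their values. -/
def relValsB : List (List Int) :=
  [[0, 0, 0, 0, 0, 0, 0, 0, 0, 0],
    [0, 0, 0, 0, 0, 0, 0, 0, 0, 0],
    [0, 0, 0, 0, 0, 0, 0, 0, 0, 0],
    [0, 0, 0, 0, 0, 0, 0, 0, 0, 0],
    [1, 0, 0, 0, 0, 0, 0, 0, 0, 0],
    [0, 0, 1, 0, 0, 0, 0, 0, 0, 0],
    [0, 0, 0, 1, 0, 0, 0, 0, 0, 0],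
    [0, 0, 0, 0, 0, 1, 0, 0, 0, 0],
    [0, 1, 0, 0, 0, 0, 0, 0, 0, 0],
    [0, 0, 0, 0, 1, 0, 0, 0, 0, 0],
    [0, 0, 0, 0, 0, 0, 1, 0, 0, 0],
    [0, 0, 0, 0, 0, 0, 0, 1, 0, 0],
    [0, 0, 0, 0, 0, 0, 0, 0, 1, 0],
    [0, 0, 0, 0, 0, 0, 0, 0, 0, 1],
    [1, 0, 0, 0, 0, 0, 0, 0, 0, 0],
    [0, 0, 1, 0, 0, 0, 0, 0, 0, 0],
    [0, 0, 0, 1, 0, 0, 0, 0, 0, 0],
    [0, 0, 0, 0, 0, 1, 0, 0, 0, 0],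
    [0, 1, 0, 0, 0, 0, 0, 0, 0, 0],
    [0, 0, 0, 0, 1, 0, 0, 0, 0, 0],
    [0, 0, 0, 0, 0, 0, 1, 0, 0, 0],
    [0, 0, 0, 0, 0, 0, 1, 0, 0, 0],
    [0, 0, 0, 0, 0, 0, 1, 0, 0, 0],
    [0, 0, 0, 0, 0, 0, 1, 0, 0, 0],
    [0, 0, 0, 0, 0, 0, 1, 0, 0, 0],
    [0, 0, 0, 0, 0, 0, 1, 0, 0, 0],
    [0, 0, 0, 0, 0, 0, 1, 0, 0, 0],
    [0, 0, 0, 0, 0, 0, -1, 0, 0, 0],
    [0, 0, 0, 0, 0, 0, -1, 0, 0, 0],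
    [0, 0, 0, 0, 0, 0, -1, 0, 0, 0],
    [0, 0, 0, 0, 0, 0, 0, 1, 0, 0],
    [0, 0, 0, 0, 0, 0, 0, 1, 0, 0],
    [0, 0, 0, 0, 0, 0, 0, 1, 0, 0],
    [0, 0, 0, 0, 0, 0, 0, 1, 0, 0],
    [0, 0, 0, 0, 0, 0, 0, 1, 0, 0],
    [0, 0, 0, 0, 0, 0, 0, 1, 0, 0],
    [0, 0, 0, 0, 0, 0, 0, 1, 0, 0],
    [0, 0, 0, 0, 0, 0, 0, 1, 0, 0],
    [0, 0, 0, 0, 0, 0, 0, 1, 0, 0],
    [0, 0, 0, 0, 0, 0, 0, -1, 0, 0],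
    [0, 0, 0, 0, 0, 0, 0, -1, 0, 0],
    [0, 0, 0, 0, 0, 0, 0, -1, 0, 0],
    [0, 0, 0, 0, 0, 0, 0, -1, 0, 0],
    [0, 0, 0, 0, 0, 0, 0, -1, 0, 0],
    [0, 0, 0, 0, 0, 0, 0, -1, 0, 0],
    [0, 0, 0, 0, 0, 0, 0, -1, 0, 0],
    [0, 0, 0, 0, 0, 0, 0, 0, 1, 0],
    [0, 0, 0, 0, 0, 0, 0, 0, 1, 0],
    [0, 0, 0, 0, 0, 0, 0, 0, 1, 0],
    [0, 0, 0, 0, 0, 0, 0, 0, 1, 0],
    [0, 0, 0, 0, 0, 0, 0, 0, 0, 1],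
    [0, 0, 0, 0, 0, 0, 0, 0, 0, 1],
    [0, 0, 0, 0, 0, 0, 0, 0, 0, 1],
    [0, 0, 0, 0, 0, 0, 0, 0, 0, 1],
    [1, 0, 0, 0, 0, 0, 0, 0, 0, 0],
    [-1, 0, 0, 0, 0, 0, 0, 0, 0, 0],
    [0, 1, 0, 0, 0, 0, 0, 0, 0, 0],
    [0, -1, 0, 0, 0, 0, 0, 0, 0, 0],
    [0, 0, 1, 0, 0, 0, 0, 0, 0, 0],
    [0, 0, -1, 0, 0, 0, 0, 0, 0, 0],
    [0, 0, 0, 1, 0, 0, 0, 0, 0, 0],
    [0, 0, 0, -1, 0, 0, 0, 0, 0, 0],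
    [0, 0, 0, 0, 1, 0, 0, 0, 0, 0],
    [0, 0, 0, 0, -1, 0, 0, 0, 0, 0],
    [0, 0, 0, 0, 0, 1, 0, 0, 0, 0],
    [0, 0, 0, 0, 0, -1, 0, 0, 0, 0],
    [0, 0, 0, 0, 0, 0, 0, 0, 1, 0],
    [0, 0, 0, 0, 0, 0, 0, 0, -1, 0],
    [0, 0, 0, 0, 0, 0, 0, 0, 0, 1],
    [0, 0, 0, 0, 0, 0, 0, 0, 0, -1]]

/-- Their sources. -/
def srcsB : List (Nat × Nat × Bool) :=
  [(0, 0, false), (1, 0, false), (2, 0, false), (3, 0, false), (4, 0, false), (6, 0, false), (7, 0, false), (9, 0, false), (5, 0, false), (8, 0, false), (10, 0, false), (11, 0, false), (12, 0, false), (13, 0, false), (4, 1, false), (6, 1, false), (7, 1, false), (9, 1, false), (5, 1, false), (8, 1, false), (10, 1, false), (10, 2, false), (10, 9, false), (10, 10, false), (10, 11, false), (10, 13, false), (10, 14, false), (10,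 3, true), (10, 7, true), (10, 13, true), (11, 1, false), (11, 2, false), (11, 3, false), (11, 4, false), (11, 10, false), (11, 11, false), (11, 12, false), (11, 13, false), (11, 14, false), (11, 0, true), (11, 1, true), (11, 4, true), (11, 9, true), (11, 10, true), (11, 11, true), (11, 12, true), (12, 2, false), (12, 3, false), (12, 12, false), (12, 13, false), (13, 7, false), (13, 13, false), (13, 14, false), (13, 15, false), (4, 0, false), (4, 1, true), (5, 0, false), (5, 1, true), (6, 0, false), (6, 1, true), (7, 0, false), (7, 1, true), (8, 0, false), (8, 1, true), (9, 0, false), (9, 1, true), (12, 0, false), (12, 5, true), (13, 0, false), (13, 11, true)]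

/-- Closed paths. -/
def pathsB : List (List Nat × List Int) :=
  [([7, 480, 6, 1856, 571, 518, 1838, 478, 479], [-1, 2, -1, 0, 0, -1, 2, 0, 0, -1]),
    ([49, 459, 17, 459, 1943, 458, 457, 456, 455, 105, 95, 94, 1717, 94, 95, 105, 455, 456, 457, 458], [1, -1, 2, -1, 0, -1, 0, 0, -1, 0]),
    ([46, 1086, 16, 2015, 2016, 1967, 868, 164, 1844, 1843, 166, 1787, 316, 317, 1994, 1057, 1056, 2014, 1086], [2, 1, -1, -1, 0, 1, 1, -1, 0, 0]),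
    ([47, 1626, 16, 2329, 2330, 2328, 1458, 1459, 1460, 2207, 1426, 2183, 1553, 2270, 1554, 1141, 1222, 1223, 1625], [1, 1, 1, -1, -1, 1, 2, 2, 0, 0]),
    ([53, 1182, 20, 2367, 2368, 822, 1924, 845, 2286, 1577, 2284, 1580, 2363, 2361, 1647, 1677, 1711, 1712, 2364, 1495, 1541, 2267, 1181], [2, -1, -1, 0, 1, 1, 1, 1, 0, 1])]

/-- The certificate. -/
def certB : VCert :=
  ⟨relWordsB, relValsB, [[0]], tabFB, tabCB, tabVB, 1715, 654, 10, 16, 4, pathsB⟩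

/-- The relators. -/
def canon : List (List Nat) :=
  [[0, 0],
    [1, 1],
    [2, 2],
    [3, 3],
    [0, 1, 0, 1, 0, 1],
    [0, 2, 0, 2, 0, 2, 0, 2],
    [0, 3, 0, 3, 0, 3],
    [1, 2, 1, 2, 1, 2],
    [1, 3, 1, 3, 1, 3, 1, 3],
    [2, 3, 2, 3, 2, 3],
    [0, 1, 0, 2, 0, 1, 2, 1, 0, 2, 0, 1, 2, 0, 2],
    [0, 1, 2, 0, 1, 2, 1, 0, 2, 0, 1, 2, 0, 2, 1],
    [0, 1, 2, 0, 1, 3, 1, 0, 2, 1, 0, 2, 3, 0, 3, 2],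
    [0, 1, 2, 1, 0, 2, 3, 0, 2, 3, 1, 3, 2, 0, 3, 2]]

/-- Their values. -/
def canonVals : List (List Int) :=
  [[0, 0, 0, 0, 0, 0, 0, 0, 0, 0],
    [0, 0, 0, 0, 0, 0, 0, 0, 0, 0],
    [0, 0, 0, 0, 0, 0, 0, 0, 0, 0],
    [0, 0, 0, 0, 0, 0, 0, 0, 0, 0],
    [1, 0, 0, 0, 0, 0, 0, 0, 0, 0],
    [0, 1, 0, 0, 0, 0, 0, 0, 0, 0],
    [0, 0, 1, 0, 0, 0, 0, 0, 0, 0],
    [0, 0, 0, 1, 0, 0, 0, 0, 0, 0],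
    [0, 0, 0, 0, 1, 0, 0, 0, 0, 0],
    [0, 0, 0, 0, 0, 1, 0, 0, 0, 0],
    [0, 0, 0, 0, 0, 0, 1, 0, 0, 0],
    [0, 0, 0, 0, 0, 0, 0, 1, 0, 0],
    [0, 0, 0, 0, 0, 0, 0, 0, 1, 0],
    [0, 0, 0, 0, 0, 0, 0, 0, 0, 1]]

/-- The exponent. -/
def expo : Nat := 4

/-- The twists. -/
def lam : List (List Int) :=
  [[0, 0, 0, 0, 0, 0, 0, 1, 0, 1],
    [0, 0, 0, 0, 0, 0, 1, 0, 0, 1],
    [0, 0, 0, 0, 0, 0, 1, 0, 0, 0],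
    [0, 0, 0, 0, 0, 0, 0, 1, 1, 1]]

/-- The generator of the bound. -/
def omega : List Int :=
  [0, 0, 0, 0, 0, 0, 0, 0, 0, 0]

/-- The multiples of it. -/
def mult : List Int :=
  [0, 0, 0, 0, 0, 0, 0, 0, 0, 0, 0, 0, 0, 0]

/-- Combinations giving the exponent. -/
def expoCombs : List (List Int × List (Nat × Nat × Int)) :=
  [([0, 0], [(6, 7, 2)]),
    ([0, 0], [(8, 9, 2)]),
    ([0, 0], [(10, 11, 2)]),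
    ([0, 0], [(12, 13, 2)]),
    ([0, 0], [(14, 15, 2)]),
    ([0, 0], [(16, 17, 2)]),
    ([-2, 0], [(8, 9, 1)]),
    ([2, -4], [(6, 7, 2), (8, 9, 1)]),
    ([0, 0], [(18, 19, 2)]),
    ([0, 0], [(20, 21, 2)])]

/-- Combinations for the twisted relators. -/
def twistCombs : List (List Int × List (Nat × Nat × Int)) :=
  [([25, 110, 37, 8, -13, 33, 33, -1, 0, 4, 3, 0, -2, 0, 0, 0, 0], [(54, 55, -75), (56, 57, -94), (58, 59, -4), (60, 61, 8), (66, 67, 4), (68, 69, 3)]),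
    ([-9, 24, 1, 0, -9, 5, 5, 1, 0, 0, -1, 0, 0, 0, 0, 0, 0], [(54, 55, -12), (56, 57, -4), (58, 59, -4), (68, 69, -1)]),
    ([-17, -48, -19, -4, 3, -15, -15, 1, 0, -2, -2, 0, 1, 0, 0, 0, 0], [(54, 55, 34), (56, 57, 48), (60, 61, -4), (66, 67, -2), (68, 69, -2)]),
    ([5, -18, -3, 0, 7, -3, -3, -1, 0, 1, 1, 0, -1, 0, 0, 0, 0], [(54, 55, 7), (56, 57, 6), (66, 67, 1), (68, 69, 1)]),
    ([24, 193, 55, 12, -31, 55, 55, 0, 0, 6, 3, 0, -3, 0, 0, 0, 0], [(54, 55, -126), (56, 57, -142), (58, 59, -12), (60, 61, 12), (66, 67, 6), (68, 69, 3)]),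
    ([16, 112, 33, 8, -17, 33, 33, 0, 0, 4, 2, 0, -2, 0, 0, 0, 0], [(54, 55, -76), (56, 57, -84), (58, 59, -8), (60, 61, 8), (66, 67, 4), (68, 69, 2)]),
    ([54, 187, 67, 15, -16, 59, 59, -3, 0, 9, 7, 0, -5, 0, 0, 0, 0], [(54, 55, -134), (56, 57, -172), (58, 59, -7), (60, 61, 15), (66, 67, 9), (68, 69, 7)]),
    ([-45, -71, -38, -8, -4, -25, -25, 3, 0, -4, -5, 0, 2, 0, 0, 0, 0], [(54, 55, 56), (56, 57, 94), (58, 59, -5), (60, 61, -8), (66, 67, -4), (68, 69, -5)]),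
    ([-7, 1, -6, 0, -1, 1, 2, 0, 0, 2, 0, 0, -2, 0, 0, 0, 0], [(54, 55, -5), (56, 57, 10), (58, 59, -7), (66, 67, 2)]),
    ([-14, -82, -27, -5, 13, -22, -22, 0, 0, -1, -1, 0, 0, 0, 0, 0, 0], [(54, 55, 50), (56, 57, 66), (60, 61, -5), (66, 67, -1), (68, 69, -1)]),
    ([6, 234, 56, 12, -48, 64, 64, 2, 0, 6, 1, 0, -3, 0, 0, 0, 0], [(54, 55, -147), (56, 57, -146), (58, 59, -20), (60, 61, 12), (66, 67, 6), (68, 69, 1)]),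
    ([6, 234, 56, 12, -48, 64, 64, 2, 0, 6, 1, 0, -3, 0, 0, 0, 0], [(54, 55, -147), (56, 57, -146), (58, 59, -20), (60, 61, 12), (66, 67, 6), (68, 69, 1)]),
    ([8, 136, 32, 8, -24, 40, 40, 0, 0, 6, 2, 0, -4, 0, 0, 0, 0], [(54, 55, -92), (56, 57, -88), (58, 59, -16), (60, 61, 8), (66, 67, 6), (68, 69, 2)]),
    ([8, 136, 32, 8, -24, 40, 40, 0, 0, 6, 2, 0, -4, 0, 0, 0, 0], [(54, 55, -92), (56, 57, -88), (58, 59, -16), (60, 61, 8), (66, 67, 6), (68, 69, 2)])]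

/-- Combinations for the twists. -/
def lamCombs : List (List Int × List (Nat × Nat × Int)) :=
  [([25, 110, 37, 8, -13, 33, 33, -1, 0, 4, 3, 0, -2, 0, 0, 0, 0], [(54, 55, -75), (56, 57, -94), (58, 59, -4), (60, 61, 8), (66, 67, 4), (68, 69, 3)]),
    ([-9, 24, 1, 0, -9, 5, 5, 1, 0, 0, -1, 0, 0, 0, 0, 0, 0], [(54, 55, -12), (56, 57, -4), (58, 59, -4), (68, 69, -1)]),
    ([-17, -48, -19, -4, 3, -15, -15, 1, 0, -2, -2, 0, 1, 0, 0, 0, 0], [(54, 55, 34), (56, 57, 48), (60, 61, -4), (66, 67, -2), (68, 69, -2)]),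
    ([5, -18, -3, 0, 7, -3, -3, -1, 0, 1, 1, 0, -1, 0, 0, 0, 0], [(54, 55, 7), (56, 57, 6), (66, 67, 1), (68, 69, 1)])]

/-- Combination for the generator. -/
def omegaComb : List Int × List (Nat × Nat × Int) :=
  ([0, 0, 0, 0, 0, 0, 0, 0, 0, 0, 0, 0, 0, 0, 0, 0, 0], [])

end Cfsg.Lib.CosetEnum.MclStemC
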