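import Cfsg.Agent.Lib.CosetEnum.Defs

/-! Generated table data. -/

set_option autoImplicit false
set_option maxRecDepth 20000

namespace Cfsg.Lib.CosetEnum.MclStemC

/-- Table data. -/
def tabVB_1_0 : Tab :=
  (.node 32 (.node 16 (.node 8 (.node 4 (.node 2 (.node 1 (.leaf 0x8988898888) (.leaf 0x89a789998a)) (.node 1 (.leaf 0x87a987778a) (.leaf 0x877a89889a))) (.node 2 (.node 1 (.leaf 0x7a7988a88a) (.leaf 0x98a788998a)) (.node 1 (.leaf 0x98aa88a887) (.leaf 0x88a789988a)))) (.node 4 (.node 2 (.node 1 (.leaf 0x7a98897889) (.leaf 0x8988897798)) (.node 1 (.leaf 0x898789977a) (.leaf 0x8888888889))) (.node 2 (.node 1 (.leaf 0x8898888888) (.leaf 0x8888889888)) (.node 1 (.leaf 0x8788879778) (.leaf 0x8998888888))))) (.node 8 (.node 4 (.node 2 (.node 1 (.leaf 0x898989a99a) (.leaf 0x899998a998)) (.node 1 (.leaf 0x9898978889) (.leaf 0x8789898878))) (.node 2 (.node 1 (.leaf 0x8789898879) (.leaf 0x8987878897)) (.node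 1 (.leaf 0x8998878789) (.leaf 0x8998879789)))) (.node 4 (.node 2 (.node 1 (.leaf 0x88a8889788) (.leaf 0x88a8887988)) (.node 1 (.leaf 0x8978878889) (.leaf 0x8998879799))) (.node 2 (.node 1 (.leaf 0x98a8888888) (.leaf 0x98a8888889)) (.node 1 (.leaf 0x8889788888) (.leaf 0x8889789888)))))) (.node 16 (.node 8 (.node 4 (.node 2 (.node 1 (.leaf 0x8888989889) (.leaf 0x8898789888)) (.node 1 (.leaf 0x888888a889) (.leaf 0x8897989889))) (.node 2 (.node 1 (.leaf 0x8778999888) (.leaf 0x788889a788)) (.node 1 (.leaf 0x788889a888) (.leaf 0x978988a897)))) (.node 4 (.node 2 (.node 1 (.leaf 0xa89887a7a7) (.leaf 0xa89887a7a7)) (.node 1 (.leaf 0x9888879898) (.leaf 0x9888879898))) (.node 2 (.node 1 (.leaf 0xa78998aa88) (.leaf 0xa98778aa88)) (.node 1 (.leaf 0xa88879aa79) (.leaf 0x98787997aa))))) (.node 8 (.node 4 (.node 2 (.node 1 (.leaf 0x98787997aa) (.leaf 0xa998787aaa)) (.node 1 (.leaf 0x978988988a) (.leaf 0x888888a989)))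 (.node 2 (.node 1 (.leaf 0x9897987788) (.leaf 0x888888a98a)) (.node 1 (.leaf 0x8a8777a989) (.leaf 0x889888a989)))) (.node 4 (.node 2 (.node 1 (.leaf 0x898878aa89) (.leaf 0x878898aa87)) (.node 1 (.leaf 0x8a7a997778) (.leaf 0x8a7a997778))) (.node 2 (.node 1 (.leaf 0x877a987a88) (.leaf 0x9988889979)) (.node 1 (.leaf 0x9888987779) (.leaf 0x8888888988)))))))

/-- Table data. -/
def tabVB_1_1 : Tab :=
  (.node 32 (.node 16 (.node 8 (.node 4 (.node 2 (.node 1 (.leaf 0x9887989788) (.leaf 0x8987898a79)) (.node 1 (.leaf 0x88a8888898) (.leaf 0x9889888798))) (.node 2 (.node 1 (.leaf 0x9889889798) (.leaf 0x9887889778)) (.node 1 (.leaf 0x8998888888) (.leaf 0x8998889888)))) (.node 4 (.node 2 (.node 1 (.leaf 0x898888889a) (.leaf 0x899a889888)) (.node 1 (.leaf 0x8898888989) (.leaf 0x8798888987))) (.node 2 (.node 1 (.leaf 0x8888898888) (.leaf 0x8989877888)) (.node 1 (.leaf 0x7999988978) (.leaf 0x87a7889888))))) (.node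 8 (.node 4 (.node 2 (.node 1 (.leaf 0x8787889798) (.leaf 0x8798889888)) (.node 1 (.leaf 0x879888a888) (.leaf 0x789888a978))) (.node 2 (.node 1 (.leaf 0x987888a798) (.leaf 0x9788888798)) (.node 1 (.leaf 0x9788888798) (.leaf 0x879888a898)))) (.node 4 (.node 2 (.node 1 (.leaf 0x8878888889) (.leaf 0x8878888889)) (.node 1 (.leaf 0x878888a899) (.leaf 0x887888888a))) (.node 2 (.node 1 (.leaf 0x8888888889) (.leaf 0x798a889888)) (.node 1 (.leaf 0x88a888a897) (.leaf 0x98a98877a9)))))) (.node 16 (.node 8 (.node 4 (.node 2 (.node 1 (.leaf 0x98a98877aa) (.leaf 0x887988a8aa)) (.node 1 (.leaf 0x8888888889) (.leaf 0x8889888888))) (.node 2 (.node 1 (.leaf 0x7888889988) (.leaf 0x788a888978)) (.node 1 (.leaf 0x988a888798) (.leaf 0x988a888799)))) (.node 4 (.node 2 (.node 1 (.leaf 0x988a88979a) (.leaf 0x9899888778)) (.node 1 (.leaf 0x8898889888) (.leaf 0x889888a888))) (.node 2 (.node 1 (.leaf 0x789a889988) (.leaf 0x78a7889978))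 (.node 1 (.leaf 0x897987a9aa) (.leaf 0x8797888877))))) (.node 8 (.node 4 (.node 2 (.node 1 (.leaf 0x88a8888877) (.leaf 0x8888888889)) (.node 1 (.leaf 0x88988888a7) (.leaf 0x87778898a8))) (.node 2 (.node 1 (.leaf 0x88aa887878) (.leaf 0x9888888777)) (.node 1 (.leaf 0x88aa887879) (.leaf 0x788888999a)))) (.node 4 (.node 2 (.node 1 (.leaf 0x87888898a7) (.leaf 0x889a8898a9)) (.node 1 (.leaf 0x888888a888) (.leaf 0x888888a889))) (.node 2 (.node 1 (.leaf 0x8878889888) (.leaf 0x8878889889)) (.node 1 (.leaf 0x888888788a) (.leaf 0x79aa88a989)))))))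

/-- Table data. -/
def tabVB_1_2 : Tab :=
  (.node 32 (.node 16 (.node 8 (.node 4 (.node 2 (.node 1 (.leaf 0x8988888888) (.leaf 0x8789888988)) (.node 1 (.leaf 0x9887888788) (.leaf 0x8888889888))) (.node 2 (.node 1 (.leaf 0x7988798889) (.leaf 0x89a7877978)) (.node 1 (.leaf 0x88a8888888) (.leaf 0x88a8889888)))) (.node 4 (.node 2 (.node 1 (.leaf 0x898887898a) (.leaf 0x79aa98a899)) (.node 1 (.leaf 0x8a88988778) (.leaf 0x8988988888))) (.node 2 (.node 1 (.leaf 0x9888a88889) (.leaf 0x7888a88887)) (.node 1 (.leaf 0x7a89799788) (.leaf 0x7aa8798787))))) (.node 8 (.node 4 (.node 2 (.node 1 (.leaf 0x779a899789) (.leaf 0x997a877987)) (.node 1 (.leaf 0x987788a979) (.leaf 0x88a7889aaa))) (.node 2 (.node 1 (.leaf 0x88a7889aaa) (.leaf 0x99878789a9)) (.node 1 (.leaf 0x8888887a9a) (.leaf 0x8988898789)))) (.node 4 (.node 2 (.node 1 (.leaf 0x7989798889) (.leaf 0x8898887a99)) (.node 1 (.leaf 0x89aa887878) (.leaf 0x88a788a788)))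 (.node 2 (.node 1 (.leaf 0x88a8888898) (.leaf 0x8888889888)) (.node 1 (.leaf 0x8889888898) (.leaf 0x88a98888a9)))))) (.node 16 (.node 8 (.node 4 (.node 2 (.node 1 (.leaf 0x8887889878) (.leaf 0x897a887878)) (.node 1 (.leaf 0x889a899789) (.leaf 0x8898888a8a))) (.node 2 (.node 1 (.leaf 0x8899888887) (.leaf 0x89aa887879)) (.node 1 (.leaf 0x897a88a878) (.leaf 0x8979889888)))) (.node 4 (.node 2 (.node 1 (.leaf 0x877a88a898) (.leaf 0x877a887898)) (.node 1 (.leaf 0x889888a878) (.leaf 0x887888a898))) (.node 2 (.node 1 (.leaf 0x87aa8898a8) (.leaf 0x87aa8898a8)) (.node 1 (.leaf 0x88a78888a8) (.leaf 0x88a98888a8))))) (.node 8 (.node 4 (.node 2 (.node 1 (.leaf 0x88a98888a9) (.leaf 0x88798888a8)) (.node 1 (.leaf 0x898a88887a) (.leaf 0x887988a8aa))) (.node 2 (.node 1 (.leaf 0x977788987a) (.leaf 0x7a97887888)) (.node 1 (.leaf 0x8978788a78) (.leaf 0x8997787978)))) (.node 4 (.node 2 (.node 1 (.leaf 0x8779989798) (.leaf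 0x8779989799)) (.node 1 (.leaf 0x899988a879) (.leaf 0x97a7978889))) (.node 2 (.node 1 (.leaf 0x8888888889) (.leaf 0x8888888888)) (.node 1 (.leaf 0x8888888889) (.leaf 0x8888889888)))))))

/-- Table data. -/
def tabVB_1_3 : Tab :=
  (.node 32 (.node 16 (.node 8 (.node 4 (.node 2 (.node 1 (.leaf 0x8898887888) (.leaf 0x8899888897)) (.node 1 (.leaf 0x8899889897) (.leaf 0x8898889888))) (.node 2 (.node 1 (.leaf 0x889888a888) (.leaf 0x89a7899a79)) (.node 1 (.leaf 0x878a887897) (.leaf 0x887888888a)))) (.node 4 (.node 2 (.node 1 (.leaf 0xa9987877aa) (.leaf 0xa97779a777)) (.node 1 (.leaf 0xa8aa7a878a) (.leaf 0x8888988888))) (.node 2 (.node 1 (.leaf 0xa88a898a8a) (.leaf 0xa897898a7a)) (.node 1 (.leaf 0x99a988a878) (.leaf 0x998aa8aa9a))))) (.node 8 (.node 4 (.node 2 (.node 1 (.leaf 0x898a9887a9) (.leaf 0x99799877a9)) (.node 1 (.leaf 0x888888a888) (.leaf 0x878a888879))) (.node 2 (.node 1 (.leaf 0x888888988a) (.leaf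 0x8898889899)) (.node 1 (.leaf 0x7987787a99) (.leaf 0x7999887aa8)))) (.node 4 (.node 2 (.node 1 (.leaf 0x9777889aa8) (.leaf 0x999a878a89)) (.node 1 (.leaf 0x9788878778) (.leaf 0x9788877779))) (.node 2 (.node 1 (.leaf 0x8888988888) (.leaf 0x987998898a)) (.node 1 (.leaf 0x7a97887988) (.leaf 0x9a79989888)))))) (.node 16 (.node 8 (.node 4 (.node 2 (.node 1 (.leaf 0x88a9788aaa) (.leaf 0x8888888988)) (.node 1 (.leaf 0xa798889877) (.leaf 0x98a9887799))) (.node 2 (.node 1 (.leaf 0x88aa88788a) (.leaf 0x987a887899)) (.node 1 (.leaf 0x888a889878) (.leaf 0x898a879888)))) (.node 4 (.node 2 (.node 1 (.leaf 0x8987879897) (.leaf 0x777a89a9aa)) (.node 1 (.leaf 0x7988897879) (.leaf 0x879898a797))) (.node 2 (.node 1 (.leaf 0x8899889987) (.leaf 0x8877887789)) (.node 1 (.leaf 0x8889888998) (.leaf 0x8898888998))))) (.node 8 (.node 4 (.node 2 (.node 1 (.leaf 0x888a8899a9) (.leaf 0x7888887887)) (.node 1 (.leaf 0x78898889a8)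 (.leaf 0x989888aa87))) (.node 2 (.node 1 (.leaf 0x99a78777a9) (.leaf 0x99a78787a9)) (.node 1 (.leaf 0x888a889878) (.leaf 0x7788999787)))) (.node 4 (.node 2 (.node 1 (.leaf 0x7888898988) (.leaf 0x8a8878a789)) (.node 1 (.leaf 0x9a8877a799) (.leaf 0x9897887898))) (.node 2 (.node 1 (.leaf 0x8a9a889799) (.leaf 0x99aa87a79a)) (.node 1 (.leaf 0x8888878888) (.leaf 0x7aa7787887)))))))

/-- Table data. -/
def tabVB_1_4 : Tab :=
  (.node 32 (.node 16 (.node 8 (.node 4 (.node 2 (.node 1 (.leaf 0x8898888897) (.leaf 0x8878888879)) (.node 1 (.leaf 0x87798797a9) (.leaf 0x87798797a9))) (.node 2 (.node 1 (.leaf 0x87a98797a9) (.leaf 0x77aa8897a8)) (.node 1 (.leaf 0x8a99879877) (.leaf 0x887788887a)))) (.node 4 (.node 2 (.node 1 (.leaf 0x8888888989) (.leaf 0x8988788998)) (.node 1 (.leaf 0x7a9899aa77) (.leaf 0x8888888a89))) (.node 2 (.node 1 (.leaf 0x8878888899) (.leaf 0x798888999a)) (.node 1 (.leaf 0x8a9a8989a7) (.leaf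 0x87a78889aa))))) (.node 8 (.node 4 (.node 2 (.node 1 (.leaf 0x899a897987) (.leaf 0x8787879797)) (.node 1 (.leaf 0x8787879797) (.leaf 0x8787879797))) (.node 2 (.node 1 (.leaf 0x88888878a9) (.leaf 0x88888878a9)) (.node 1 (.leaf 0x88888878a9) (.leaf 0x88888888a9)))) (.node 4 (.node 2 (.node 1 (.leaf 0x79998a9a79) (.leaf 0x88a88888a7)) (.node 1 (.leaf 0x8a879988aa) (.leaf 0x7798799a7a))) (.node 2 (.node 1 (.leaf 0x8788889888) (.leaf 0x8789888889)) (.node 1 (.leaf 0x8989887898) (.leaf 0x7888898a88)))))) (.node 16 (.node 8 (.node 4 (.node 2 (.node 1 (.leaf 0x8a7888aa97) (.leaf 0x7888898a89)) (.node 1 (.leaf 0x7898898a88) (.leaf 0x9878878a98))) (.node 2 (.node 1 (.leaf 0x977a878a99) (.leaf 0x977a878a99)) (.node 1 (.leaf 0x977a878a99) (.leaf 0x978a878a89)))) (.node 4 (.node 2 (.node 1 (.leaf 0x997a877898) (.leaf 0x87aa897a77)) (.node 1 (.leaf 0x9aaa89a8a7) (.leaf 0x87aa897a77))) (.node 2 (.node 1 (.leaf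 0x9aaa89a7a7) (.leaf 0x87aa897a77)) (.node 1 (.leaf 0x9aaa89a7a7) (.leaf 0x8a778aa87a))))) (.node 8 (.node 4 (.node 2 (.node 1 (.leaf 0x77a787aa89) (.leaf 0x99a989aa87)) (.node 1 (.leaf 0x99a989aa87) (.leaf 0x99a989aa87))) (.node 2 (.node 1 (.leaf 0x8aa88aa887) (.leaf 0x8aa88aa889)) (.node 1 (.leaf 0x8aa88aa889) (.leaf 0x87a98a9898)))) (.node 4 (.node 2 (.node 1 (.leaf 0x89a78a7878) (.leaf 0x89a78a7878)) (.node 1 (.leaf 0x888987aaa8) (.leaf 0x888987aaa8))) (.node 2 (.node 1 (.leaf 0x9878988a97) (.leaf 0x778a89a979)) (.node 1 (.leaf 0x88a8888897) (.leaf 0x9a7a87a8a9)))))))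

/-- Table data. -/
def tabVB_1_5 : Tab :=
  (.leaf 0x9879889877)

/-- Table data. -/
def tabVB_1 : Tab :=
  (.node 192 (.node 64 tabVB_1_0 (.node 64 tabVB_1_1 tabVB_1_2)) (.node 64 tabVB_1_3 (.node 64 tabVB_1_4 tabVB_1_5)))

end Cfsg.Lib.CosetEnum.MclStemC
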